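import Cfsg.Agent.Lib.CIT.ThreeGen.Tools
import Cfsg.Agent.Lib.PGroup.CoprimeTopSizes

/-!
# Groups with trivial centre and three centralizer orders, two of them comparable
-/

set_option autoImplicit false
set_option linter.unusedSectionVars false
set_option linter.style.haveILetI false

namespace CfsgLib.CIT.ThreeGen

open Subgroup
open CfsgLib.CIT.ThreeSizes (cc Chain mem_C self_mem C_le_pow mem_of_commute_mul mul_ne_one_of_coprime
  cc_le eq_of_le_of_cc orderOf_dvd_cc exists_prime_pow exists_full)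

universe u

variable {G : Type u} [Group G] [Finite G]

local notation "C[" x "]" => centralizer ({x} : Set G)

theorem C_ne_top (hZ : center G = ⊥) {x : G} (hx : x ≠ 1) : C[x] ≠ ⊤ := fun h => hx (by
  have : x ∈ center G := mem_center_iff.2 fun g => mem_C.1 (h ▸ mem_top g)
  rwa [hZ, mem_bot] at this)

theorem cc_one : cc (1 : G) = Nat.card G := by
  rw [cc, show C[(1 : G)] = ⊤ from eq_top_iff.2 fun g _ => mem_C.2 (by rw [mul_one, one_mul])]
  exact card_top

theorem cc_lt (hZ : center G = ⊥) {x : G} (hx : x ≠ 1) : cc x < Nat.card G :=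
  lt_of_le_of_ne (Nat.le_of_dvd Nat.card_pos (card_subgroup_dvd_card _))
    fun e => C_ne_top hZ hx (eq_top_of_card_eq _ e)

variable (hZ : center G = ⊥) {a b c : ℕ} (h : Chain G a b c)

include hZ h

theorem ne_one_b {y : G} (hy : cc y = b) : y ≠ 1 := by
  obtain ⟨y₀, hy₀, e⟩ := h.exb
  rintro rfl
  rw [cc_one, ← e] at hy
  exact (cc_lt hZ hy₀).ne hy.symm

theorem ne_one_c {w : G} (hw : cc w = c) : w ≠ 1 := by
  obtain ⟨w₀, hw₀, e⟩ := h.exc
  rintro rfl
  rw [cc_one, ← e] at hw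
  exact (cc_lt hZ hw₀).ne hw.symm

theorem ne_one_a {x : G} (hx : cc x = a) : x ≠ 1 := by
  obtain ⟨y₀, hy₀, e⟩ := h.exb
  rintro rfl
  rw [cc_one] at hx
  have := h.lt
  have := cc_lt hZ hy₀
  omega

theorem dvd_lcm : Nat.card G ∣ Nat.lcm b c := by
  rw [Nat.dvd_iff_prime_pow_dvd_dvd]
  intro p k hp hk
  rcases Nat.eq_zero_or_pos k with rfl | hk0
  · rw [pow_zero]; exact one_dvd _
  obtain ⟨z, hz, hfull⟩ := exists_full p hp ((dvd_pow_self p hk0.ne').trans hk)
  have hd := hfull k hk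
  rcases h.vals z (fun e => hp.ne_one (by rw [← hz, e, orderOf_one])) with e | e | e <;> rw [e] at hd
  · exact (hd.trans h.dvd).trans (Nat.dvd_lcm_left b c)
  · exact hd.trans (Nat.dvd_lcm_left b c)
  · exact hd.trans (Nat.dvd_lcm_right b c)

theorem not_dvd : ¬ b ∣ c ∧ ¬ c ∣ b := by
  obtain ⟨y, hy, rfl⟩ := h.exb
  obtain ⟨w, hw, rfl⟩ := h.exc
  constructor <;> intro hd
  · refine C_ne_top hZ hw (eq_top_of_card_eq _ (Nat.dvd_antisymm (card_subgroup_dvd_card _) ?_))
    have := dvd_lcm hZ h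
    rwa [Nat.lcm_eq_right hd] at this
  · refine C_ne_top hZ hy (eq_top_of_card_eq _ (Nat.dvd_antisymm (card_subgroup_dvd_card _) ?_))
    have := dvd_lcm hZ h
    rwa [Nat.lcm_eq_left hd] at this

theorem ne_bc : b ≠ c := fun e => (not_dvd hZ h).1 (dvd_of_eq e)

theorem ne_ac : a ≠ c := fun e => (not_dvd hZ h).2 (e ▸ h.dvd)

theorem max_b {y v : G} (hy : cc y = b) (hv : v ≠ 1) (hle : C[y] ≤ C[v]) : C[y] = C[v] := by
  refine eq_of_le_of_cc hle ?_
  have hd := cc_le hle
  rw [hy] at hd ⊢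
  rcases h.vals v hv with e | e | e <;> rw [e] at hd ⊢
  · exact absurd (Nat.le_of_dvd (e ▸ Nat.card_pos) hd) (Nat.not_le.2 h.lt)
  · exact absurd hd (not_dvd hZ h).1

theorem max_c {w v : G} (hw : cc w = c) (hv : v ≠ 1) (hle : C[w] ≤ C[v]) : C[w] = C[v] := by
  refine eq_of_le_of_cc hle ?_
  have hd := cc_le hle
  rw [hw] at hd ⊢
  rcases h.vals v hv with e | e | e <;> rw [e] at hd ⊢
  · exact absurd (hd.trans h.dvd) (not_dvd hZ h).2
  · exact absurd hd (not_dvd hZ h).2

theorem min_a {x v : G} (hx : cc x = a) (hv : v ≠ 1) (hle : C[v] ≤ C[x]) : C[v] = C[x] := by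
  refine eq_of_le_of_cc hle ?_
  have hd := cc_le hle
  rw [hx] at hd ⊢
  rcases h.vals v hv with e | e | e <;> rw [e] at hd ⊢
  · exact absurd (Nat.le_of_dvd (hx ▸ Nat.card_pos) hd) (Nat.not_le.2 h.lt)
  · exact absurd (hd.trans h.dvd) (not_dvd hZ h).2

/-- In a minimal centralizer the elements of coprime order are central. -/
theorem central_a {x u g : G} (hx : cc x = a) (hx1 : x ≠ 1) (hu : u ∈ C[x])
    (hco : (orderOf x).Coprime (orderOf u)) (hg : g ∈ C[x]) : g * u = u * g := by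
  have hle : C[x * u] ≤ C[x] := fun g hg =>
    mem_C.2 (mem_of_commute_mul (show Commute u x from mem_C.1 hu).symm hco (mem_C.1 hg)).1
  rw [← min_a hZ h hx (mul_ne_one_of_coprime hx1 hco) hle] at hg
  exact (mem_of_commute_mul (show Commute u x from mem_C.1 hu).symm hco (mem_C.1 hg)).2

theorem coprime_index {y w : G} (hy : cc y = b) (hw : cc w = c) :
    Nat.Coprime (C[y]).index (C[w]).index := by
  refine Nat.coprime_of_dvd' fun p hp hpy hpw => ?_
  obtain ⟨i, hi⟩ := hpy
  obtain ⟨j, hj⟩ := hpw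
  have h1 := card_mul_index C[y]
  have h2 := card_mul_index C[w]
  rw [hi] at h1
  rw [hj] at h2
  have hdiv : p * Nat.lcm b c ∣ Nat.card G := by
    rw [← Nat.lcm_mul_left]
    refine Nat.lcm_dvd ⟨i, ?_⟩ ⟨j, ?_⟩
    · rw [← h1, ← hy]; ring
    · rw [← h2, ← hw]; ring
  have hpos : 0 < Nat.lcm b c := Nat.lcm_pos (hy ▸ Nat.card_pos) (hw ▸ Nat.card_pos)
  have h3 : p * Nat.lcm b c ≤ Nat.lcm b c := Nat.le_of_dvd hpos (hdiv.trans (dvd_lcm hZ h))
  have h4 : 2 * Nat.lcm b c ≤ p * Nat.lcm b c := Nat.mul_le_mul_right _ hp.two_le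
  omega

/-- The group is the product of the two centralizers. -/
theorem exists_mul {y w : G} (hy : cc y = b) (hw : cc w = c) (g : G) :
    ∃ k ∈ C[y], ∃ d ∈ C[w], g = k * d := by
  classical
  obtain ⟨B, hB⟩ : ∃ B : Subgroup G, B = C[y] := ⟨_, rfl⟩
  obtain ⟨W, hW⟩ : ∃ W : Subgroup G, W = C[w] := ⟨_, rfl⟩
  rw [← hB, ← hW]
  have hco : Nat.Coprime B.index W.index := by rw [hB, hW]; exact coprime_index hZ h hy hw
  have hrel : W.index ≤ W.relIndex B := by
    have h1 : (W ⊓ B).relIndex B * B.index = (W ⊓ B).index := relIndex_mul_index inf_le_right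
    have h2 : (W ⊓ B).relIndex W * W.index = (W ⊓ B).index := relIndex_mul_index inf_le_left
    rw [inf_relIndex_right] at h1
    have h3 : W.index ∣ W.relIndex B * B.index := ⟨_, by rw [h1, ← h2, mul_comm]⟩
    exact Nat.le_of_dvd (Nat.pos_of_ne_zero index_ne_zero_of_finite) (hco.symm.dvd_of_dvd_mul_right h3)
  let f : B ⧸ W.subgroupOf B → G ⧸ W :=
    Quotient.map' (fun x : B => (x : G)) fun x x' hx =>
      QuotientGroup.leftRel_apply.2 (mem_subgroupOf.1 (QuotientGroup.leftRel_apply.1 hx))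
  have hinj : Function.Injective f := by
    intro x x'
    induction x using QuotientGroup.induction_on
    induction x' using QuotientGroup.induction_on
    intro he
    exact QuotientGroup.eq.2 (mem_subgroupOf.2 (QuotientGroup.eq.1 he))
  haveI : Fintype (B ⧸ W.subgroupOf B) := Fintype.ofFinite _
  haveI : Fintype (G ⧸ W) := Fintype.ofFinite _
  have hbij : Function.Bijective f := by
    refine (Fintype.bijective_iff_injective_and_card f).2 ⟨hinj, le_antisymm
      (Fintype.card_le_of_injective f hinj) ?_⟩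
    rw [← Nat.card_eq_fintype_card, ← Nat.card_eq_fintype_card]
    exact hrel
  obtain ⟨x, hx⟩ := hbij.2 (g : G ⧸ W)
  induction x using QuotientGroup.induction_on with
  | H x => exact ⟨x, x.2, (x : G)⁻¹ * g, QuotientGroup.eq.1 hx, by group⟩

/-- A pair in the two classes is conjugate to the given pair. -/
theorem pair_conj {y w : G} (hy : cc y = b) (hw : cc w = c) (g₁ g₂ : G) :
    ∃ g : G, g * y * g⁻¹ = g₁ * y * g₁⁻¹ ∧ g * w * g⁻¹ = g₂ * w * g₂⁻¹ := by
  obtain ⟨k, hk, d, hd, e⟩ := exists_mul hZ h hy hw (g₁⁻¹ * g₂)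
  refine ⟨g₁ * k, ?_, ?_⟩
  · rw [show g₁ * k * y * (g₁ * k)⁻¹ = g₁ * (k * y) * k⁻¹ * g₁⁻¹ by group, mem_C.1 hk]
    group
  · rw [show g₂ = g₁ * k * d by rw [show g₁ * k * d = g₁ * (k * d) by group, ← e]; group,
      show g₁ * k * d * w * (g₁ * k * d)⁻¹ = g₁ * k * (d * w) * d⁻¹ * k⁻¹ * g₁⁻¹ by group, mem_C.1 hd]
    group

theorem card_inter {y w : G} (hy : cc y = b) (hw : cc w = c) :
    Nat.card (C[y] ⊓ C[w] : Subgroup G) * Nat.card G = b * c := by
  have h1 := card_mul_index (C[y] ⊓ C[w])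
  rw [CfsgLib.ClassGraph.index_inf_of_coprime (coprime_index hZ h hy hw)] at h1
  have h2 := card_mul_index C[y]
  have h3 := card_mul_index C[w]
  rw [show Nat.card C[y] = b from hy] at h2
  rw [show Nat.card C[w] = c from hw] at h3
  apply Nat.eq_of_mul_eq_mul_left (show 0 < (C[y]).index * (C[w]).index from Nat.mul_pos
    (Nat.pos_of_ne_zero index_ne_zero_of_finite) (Nat.pos_of_ne_zero index_ne_zero_of_finite))
  calc (C[y]).index * (C[w]).index * (Nat.card (C[y] ⊓ C[w] : Subgroup G) * Nat.card G)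
      = (Nat.card (C[y] ⊓ C[w] : Subgroup G) * ((C[y]).index * (C[w]).index)) * Nat.card G := by ring
    _ = Nat.card G * Nat.card G := by rw [h1]
    _ = (C[y]).index * (C[w]).index * (b * c) := by
      nth_rewrite 1 [← h2]
      rw [← h3]
      ring

/-- An element of prime order of the first kind. -/
theorem prime_b {y : G} (hy : cc y = b) :
    ∃ r : ℕ, r.Prime ∧ ∃ k : ℕ, orderOf (y ^ k) = r ∧ C[y ^ k] = C[y] ∧ cc (y ^ k) = b := by
  obtain ⟨r, hr, k, hk, hle⟩ := exists_prime_pow (ne_one_b hZ h hy)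
  have he := max_b hZ h hy (fun e => hr.ne_one (by rw [← hk, e, orderOf_one])) hle
  exact ⟨r, hr, k, hk, he.symm, by rw [← hy]; exact congrArg (fun H : Subgroup G => Nat.card H) he.symm⟩

/-- An element of prime order of the second kind. -/
theorem prime_c {w : G} (hw : cc w = c) :
    ∃ r : ℕ, r.Prime ∧ ∃ k : ℕ, orderOf (w ^ k) = r ∧ C[w ^ k] = C[w] ∧ cc (w ^ k) = c := by
  obtain ⟨r, hr, k, hk, hle⟩ := exists_prime_pow (ne_one_c hZ h hw)
  have he := max_c hZ h hw (fun e => hr.ne_one (by rw [← hk, e, orderOf_one])) hle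
  exact ⟨r, hr, k, hk, he.symm, by rw [← hw]; exact congrArg (fun H : Subgroup G => Nat.card H) he.symm⟩

omit hZ h in
/-- No elements of distinct prime orders from the two classes commute. -/
def SamePrime (G : Type u) [Group G] (b c : ℕ) : Prop :=
  ∀ y w : G, ∀ r s : ℕ, cc y = b → cc w = c → r.Prime → s.Prime → orderOf y = r → orderOf w = s →
    y * w = w * y → r = s

/-- The elements of prime order of the meet of two centralizers of distinct prime orders. -/
theorem meet_prime (hsp : SamePrime G b c) {y w v : G} {r s p : ℕ} (hy : cc y = b) (hw : cc w = c)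
    (hr : r.Prime) (hs : s.Prime) (hp : p.Prime) (hyo : orderOf y = r) (hwo : orderOf w = s)
    (hvo : orderOf v = p) (hrs : r ≠ s) (hvy : v ∈ C[y]) (hvw : v ∈ C[w]) :
    (cc v = b ∧ p = s) ∨ (cc v = c ∧ p = r) := by
  have hv1 : v ≠ 1 := fun e => hp.ne_one (by rw [← hvo, e, orderOf_one])
  rcases h.vals v hv1 with e | e | e
  · exfalso
    refine hrs (hsp y w r s hy hw hr hs hyo hwo ?_)
    have hyv : y ∈ C[v] := mem_C.2 (mem_C.1 hvy).symm
    have hwv : w ∈ C[v] := mem_C.2 (mem_C.1 hvw).symm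
    rcases eq_or_ne p r with rfl | hpr
    · exact central_a hZ h e hv1 hwv (by rw [hvo, hwo]; exact (Nat.coprime_primes hp hs).2 hrs) hyv
    · exact (central_a hZ h e hv1 hyv (by rw [hvo, hyo]; exact (Nat.coprime_primes hp hr).2 hpr) hwv).symm
  · exact Or.inl ⟨e, hsp v w p s e hw hp hs hvo hwo (mem_C.1 hvw)⟩
  · exact Or.inr ⟨e, (hsp y v r p hy e hr hp hyo hvo (mem_C.1 hvy).symm).symm⟩

end CfsgLib.CIT.ThreeGen
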