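import Cfsg.Agent.Lib.CIT.ThreeGen.CaseII
import Cfsg.Agent.Lib.CIT.Basic

/-!
# No commuting pair: an abelian Hall subgroup with trivial intersections
-/

set_option autoImplicit false
set_option linter.unusedSectionVars false
set_option linter.style.haveILetI false

namespace CfsgLib.CIT.ThreeGen

open Subgroup
open CfsgLib.CIT.ThreeSizes (cc Chain mem_C self_mem C_le_pow mem_of_commute_mul mul_ne_one_of_coprime
  cc_le eq_of_le_of_cc orderOf_dvd_cc exists_prime_pow exists_full)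
open scoped commutatorElement

universe u

variable {G : Type u} [Group G] [Finite G]

local notation "C[" x "]" => centralizer ({x} : Set G)

/-- An abelian subgroup of order `c` that is the centralizer of each of its nontrivial elements. -/
structure TIHall (W : Subgroup G) (c : ℕ) : Prop where
  card : Nat.card W = c
  cent : ∀ u ∈ W, u ≠ 1 → C[u] = W
  comm : ∀ u ∈ W, ∀ v ∈ W, u * v = v * u

variable (hZ : center G = ⊥) {a b c : ℕ} (h : Chain G a b c) (hns : ¬ Group.IsSolvable G)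

include hZ h hns

theorem card_mul_eq : b * c = Nat.card G ∧ b.Coprime c := by
  obtain ⟨y₀, -, hyb₀⟩ := h.exb
  obtain ⟨w₀, -, hwc₀⟩ := h.exc
  obtain ⟨r, hr, k, hk, -, hy⟩ := prime_b hZ h hyb₀
  obtain ⟨s, hs, l, hl, -, hw⟩ := prime_c hZ h hwc₀
  generalize y₀ ^ k = y at hk hy
  generalize w₀ ^ l = w at hl hw
  have hsp := samePrime hZ h hns
  have hbc : b * c = Nat.card G := by
    by_contra hne
    have key : ∀ {y w : G} {r s : ℕ}, cc y = b → cc w = c → r.Prime → s.Prime →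
        orderOf y = r → orderOf w = s → r = s := by
      intro y w r s hy hw hr hs hyo hwo
      by_contra hrs
      have hd := card_inter hZ h hy hw
      obtain ⟨p, hp, hpd⟩ := Nat.exists_prime_and_dvd (n := Nat.card (C[y] ⊓ C[w] : Subgroup G))
        fun e => hne (by rw [← hd, e, one_mul])
      haveI : Fact p.Prime := ⟨hp⟩
      obtain ⟨⟨v, hv⟩, hvo⟩ := exists_prime_orderOf_dvd_card' (G := (C[y] ⊓ C[w] : Subgroup G)) p hpd
      rw [Subgroup.orderOf_mk] at hvo
      rcases meet_prime hZ h hsp hy hw hr hs hp hyo hwo hvo hrs (mem_inf.1 hv).1 (mem_inf.1 hv).2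
        with ⟨e, -⟩ | ⟨e, -⟩
      · exact no_commute hZ h hns e hw (mem_C.1 (mem_inf.1 hv).2)
      · exact no_commute hZ h hns hy e (mem_C.1 (mem_inf.1 hv).1).symm
    have hm : ∀ q : ℕ, q.Prime → q ∣ (C[y]).index → q = r := by
      intro q hq hqd
      by_contra hqr
      obtain ⟨z, hz, hfull⟩ := exists_full q hq (hqd.trans (index_dvd_card _))
      refine not_dvd_index_of_full hq (z := y) (fun k' hk' => ?_) hqd
      rw [hy]
      rcases h.vals z (fun e => hq.ne_one (by rw [← hz, e, orderOf_one])) with e | e | e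
      · exact (e ▸ hfull k' hk').trans h.dvd
      · exact e ▸ hfull k' hk'
      · exact absurd (key hy e hr hq hk hz).symm hqr
    obtain ⟨q, hq, hqd⟩ := Nat.exists_prime_and_dvd fun e : (C[y]).index = 1 =>
      C_ne_top hZ (ne_one_b hZ h hy) (index_eq_one.1 e)
    haveI : Fact r.Prime := ⟨hr⟩
    obtain ⟨P, hP⟩ := (IsPGroup.of_card (n := 1) (by rw [Nat.card_zpowers, hk, pow_one]) :
      IsPGroup r (zpowers y)).exists_le_sylow
    obtain ⟨g, hg⟩ := CfsgLib.ClassGraph.exists_conj_centralizes P (x := w) fun hd =>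
      hr.ne_one (Nat.dvd_one.1 (coprime_index hZ h hy hw ▸ Nat.dvd_gcd (hm q hq hqd ▸ hqd) hd))
    refine no_commute hZ h hns hy (w₀ := g⁻¹ * w * g) ?_ (mem_centralizer_iff.1 hg y (hP (mem_zpowers y)))
    rw [← hw, cc, cc]
    have h1 : (C[g⁻¹ * w * g]).index = (C[w]).index := by
      have := CfsgLib.ClassGraph.cidx_conj g⁻¹ w
      rwa [inv_inv] at this
    have h2 := card_mul_index C[g⁻¹ * w * g]
    rw [h1, ← card_mul_index C[w]] at h2
    exact Nat.eq_of_mul_eq_mul_right (Nat.pos_of_ne_zero index_ne_zero_of_finite) h2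
  refine ⟨hbc, ?_⟩
  have hco := coprime_index hZ h hy hw
  have h1 := card_mul_index C[y]
  have h2 := card_mul_index C[w]
  rw [show Nat.card C[y] = b from hy, ← hbc] at h1
  rw [show Nat.card C[w] = c from hw, ← hbc, mul_comm b c] at h2
  rw [Nat.eq_of_mul_eq_mul_left (hy ▸ Nat.card_pos) h1,
    Nat.eq_of_mul_eq_mul_left (hw ▸ Nat.card_pos) h2] at hco
  exact hco.symm

theorem index_b {y : G} (hy : cc y = b) : (C[y]).index = c := by
  have h1 := card_mul_index C[y]
  rw [show Nat.card C[y] = b from hy, ← (card_mul_eq hZ h hns).1] at h1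
  exact Nat.eq_of_mul_eq_mul_left (hy ▸ Nat.card_pos) h1

theorem index_c {w : G} (hw : cc w = c) : (C[w]).index = b := by
  have h1 := card_mul_index C[w]
  rw [show Nat.card C[w] = c from hw, ← (card_mul_eq hZ h hns).1, mul_comm b c] at h1
  exact Nat.eq_of_mul_eq_mul_left (hw ▸ Nat.card_pos) h1

theorem order_cases {v : G} (hv : v ≠ 1) :
    (orderOf v ∣ b ∧ ¬ orderOf v ∣ c ∧ cc v ≠ c) ∨ (orderOf v ∣ c ∧ ¬ orderOf v ∣ b ∧ cc v = c) := by
  have hd := orderOf_dvd_cc (self_mem v)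
  have hco := (card_mul_eq hZ h hns).2
  have hn : orderOf v ∣ b → orderOf v ∣ c → False := fun h1 h2 =>
    hv (orderOf_eq_one_iff.1 (Nat.eq_one_of_dvd_coprimes hco h1 h2))
  rcases h.vals v hv with e | e | e <;> rw [e] at hd
  · exact Or.inl ⟨hd.trans h.dvd, hn (hd.trans h.dvd), e ▸ ne_ac hZ h⟩
  · exact Or.inl ⟨hd, hn hd, e ▸ ne_bc hZ h⟩
  · exact Or.inr ⟨hd, fun h2 => hn h2 hd, e⟩

theorem typ_c {v : G} (hv : v ≠ 1) (hd : orderOf v ∣ c) : cc v = c := by
  rcases order_cases hZ h hns hv with ⟨-, h2, -⟩ | ⟨-, -, h3⟩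
  · exact absurd hd h2
  · exact h3

theorem typ_ab {v : G} (hv : v ≠ 1) (hd : orderOf v ∣ b) : cc v = a ∨ cc v = b := by
  rcases order_cases hZ h hns hv with ⟨-, -, h3⟩ | ⟨-, h2, -⟩
  · rcases h.vals v hv with e | e | e
    · exact Or.inl e
    · exact Or.inr e
    · exact absurd e h3
  · exact absurd hd h2

/-- The centralizer of an element that is not of the second kind has no element of that kind. -/
theorem order_dvd_b_of_commute {v x : G} (hv : v ≠ 1) (hvc : cc v ≠ c) (hx : x * v = v * x) :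
    orderOf x ∣ b := by
  have hd := orderOf_dvd_cc (mem_C.2 hx : x ∈ C[v])
  rcases h.vals v hv with e | e | e
  · exact (e ▸ hd).trans h.dvd
  · exact e ▸ hd
  · exact absurd e hvc

/-- An element of prime power order for a prime dividing `c`. -/
theorem dvd_c_of_pow {v : G} {p i : ℕ} (hp : p.Prime) (hpc : p ∣ c) (ho : orderOf v = p ^ i) :
    orderOf v ∣ c := by
  obtain ⟨hbc, hco⟩ := card_mul_eq hZ h hns
  refine (Nat.Coprime.dvd_of_dvd_mul_left ?_ (hbc ▸ orderOf_dvd_natCard v))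
  rw [ho]
  exact Nat.Coprime.pow_left i (hp.coprime_iff_not_dvd.2 fun hd =>
    hp.ne_one (Nat.eq_one_of_dvd_coprimes hco hd hpc))

/-- With two primes in `c` the centralizer of an element of the second kind is abelian. -/
theorem C_eq {w u : G} (htwo : ∀ s : ℕ, s.Prime → ∃ q : ℕ, q.Prime ∧ q ∣ c ∧ q ≠ s) (hw : cc w = c)
    (hw1 : w ≠ 1) (hu : u ∈ C[w]) (hu1 : u ≠ 1) :
    C[u] = C[w] ∧ ∀ x ∈ C[w], ∀ x' ∈ C[w], x * x' = x' * x := by
  have typ : ∀ {v w : G}, cc w = c → v ∈ C[w] → v ≠ 1 → cc v = c := fun {v w} hw hv hv1 => by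
    exact typ_c hZ h hns hv1 (hw ▸ orderOf_dvd_cc hv)
  obtain ⟨s, hs, k, hk, hle⟩ := exists_prime_pow hw1
  set w' := w ^ k
  have hw'1 : w' ≠ 1 := fun e => hs.ne_one (by rw [← hk, e, orderOf_one])
  have he := max_c hZ h hw hw'1 hle
  have hw' : cc w' = c := by rw [← hw]; show Nat.card C[w'] = Nat.card C[w]; rw [he]
  -- a second prime
  obtain ⟨q, hq, hqc, hqs⟩ := htwo s hs
  haveI : Fact q.Prime := ⟨hq⟩
  obtain ⟨⟨v, hvw⟩, hvo⟩ := exists_prime_orderOf_dvd_card' (G := C[w']) q (by rw [← hw'] at hqc; exact hqc)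
  rw [Subgroup.orderOf_mk] at hvo
  -- elements of coprime order are central
  have cen : ∀ {w : G}, cc w = c → w ≠ 1 → ∀ x ∈ C[w], x ≠ 1 → (orderOf w).Coprime (orderOf x) →
      C[x] = C[w] := by
    intro w hw hw1 x hx hx1 hco
    have hcomm : Commute w x := (show Commute x w from mem_C.1 hx).symm
    have hm : w * x ∈ C[w] := mul_mem (self_mem w) hx
    have hne := mul_ne_one_of_coprime hw1 hco
    have hle1 : C[w * x] ≤ C[w] := fun g hg => mem_C.2 (mem_of_commute_mul hcomm hco (mem_C.1 hg)).1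
    have he1 := eq_of_le_of_cc hle1 (by rw [typ hw hm hne, hw])
    refine (eq_of_le_of_cc (fun g hg => ?_) (by rw [typ hw hx hx1, hw])).symm
    rw [← he1] at hg
    exact mem_C.2 (mem_of_commute_mul hcomm hco (mem_C.1 hg)).2
  have hv1 : v ≠ 1 := fun e => hq.ne_one (by rw [← hvo, e, orderOf_one])
  have hev : C[v] = C[w'] := cen hw' hw'1 v hvw hv1
    (by rw [hk, hvo]; exact (Nat.coprime_primes hs hq).2 hqs.symm)
  have hab : ∀ x ∈ C[w], ∀ x' ∈ C[w], x * x' = x' * x := by
    intro x hx x' hx'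
    rw [he] at hx hx'
    obtain ⟨i, n, hn, hxn⟩ := Nat.exists_eq_pow_mul_and_not_dvd (orderOf_pos x).ne' s hs.ne_one
    have h1 : ∀ j : ℕ, j = s ^ i ∨ j = n → x' * x ^ j = x ^ j * x' := by
      intro j hj
      rcases eq_or_ne (x ^ j) 1 with e | e
      · rw [e, mul_one, one_mul]
      rcases hj with rfl | rfl
      · have := cen hw' hw'1 _ (pow_mem hx _) e (by
          rw [hk]
          refine (Nat.Coprime.coprime_dvd_right ?_ ((hs.coprime_iff_not_dvd).2 hn))
          exact orderOf_dvd_of_pow_eq_one (by rw [← pow_mul, ← hxn, pow_orderOf_eq_one]))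
        exact mem_C.1 (this ▸ hx')
      · have := cen (typ hw' hvw hv1) hv1 _ (hev ▸ pow_mem hx _) e (by
          rw [hvo]
          refine Nat.Coprime.coprime_dvd_right (orderOf_dvd_of_pow_eq_one
            (n := s ^ i) (by rw [← pow_mul, mul_comm, ← hxn, pow_orderOf_eq_one])) ?_
          exact Nat.Coprime.pow_right _ ((Nat.coprime_primes hq hs).2 hqs))
        exact mem_C.1 ((this.trans hev) ▸ hx')
    have hcop : (s ^ i).Coprime n := Nat.Coprime.pow_left _ ((hs.coprime_iff_not_dvd).2 hn)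
    have hxe : x ∈ centralizer ({x'} : Set G) := by
      have hA : x ^ s ^ i ∈ centralizer ({x'} : Set G) := mem_C.2 (h1 _ (Or.inl rfl)).symm
      have hB : x ^ n ∈ centralizer ({x'} : Set G) := mem_C.2 (h1 _ (Or.inr rfl)).symm
      obtain ⟨α, β, hαβ⟩ := Nat.isCoprime_iff_coprime.2 hcop
      have := mul_mem (zpow_mem hA α) (zpow_mem hB β)
      rwa [← zpow_natCast x, ← zpow_natCast x, ← zpow_mul, ← zpow_mul, ← zpow_add,
        mul_comm ((s ^ i : ℕ) : ℤ) α, mul_comm (n : ℤ) β, hαβ, zpow_one] at this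
    exact mem_C.1 hxe
  exact ⟨(eq_of_le_of_cc (fun g hg => mem_C.2 (hab g hg u hu)) (by rw [hw, typ hw hu hu1])).symm, hab⟩

omit h hns in
theorem pp_or_two (c : ℕ) (hc : c ≠ 0) :
    (∃ s i : ℕ, s.Prime ∧ c = s ^ i) ∨ ∀ s : ℕ, s.Prime → ∃ q : ℕ, q.Prime ∧ q ∣ c ∧ q ≠ s := by
  rw [or_iff_not_imp_right]
  intro hn
  push Not at hn
  obtain ⟨s, hs, hall⟩ := hn
  exact ⟨s, _, hs, Nat.eq_prime_pow_of_unique_prime_dvd hc fun {q} hq hd => hall q hq hd⟩

/-- The centralizers of the second kind are solvable. -/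
theorem solvable_Cw {w : G} (hw : cc w = c) : Group.IsSolvable C[w] := by
  rcases pp_or_two hZ c (hw ▸ Nat.card_pos.ne') with ⟨s, i, hs, hc⟩ | htwo
  · haveI : Fact s.Prime := ⟨hs⟩
    haveI := (IsPGroup.of_card (n := i) (hw.trans hc) : IsPGroup s C[w]).isNilpotent
    infer_instance
  · exact Group.isSolvable_of_comm fun x x' => Subtype.ext
      ((C_eq hZ h hns htwo hw (ne_one_c hZ h hw) (self_mem w) (ne_one_c hZ h hw)).2 x x.2 x' x'.2)

/-- The radical has no element of the second kind. -/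
theorem rad_pi {R : Subgroup G} [R.Normal] (hRs : Group.IsSolvable R) {x : G} (hx : x ∈ R) : cc x ≠ c := by
  intro hxc
  obtain ⟨K, hKle, hK⟩ := exists_minimal_le_of_wellFoundedLT (α := Subgroup G)
    (fun M => M.Normal ∧ ∃ v ∈ M, cc v = c) R ⟨inferInstance, x, hx, hxc⟩
  obtain ⟨hKn, v₀, hv₀K, hv₀⟩ := hK.prop
  haveI := hKn
  haveI : Group.IsSolvable K := Group.isSolvable_of_isSolvable_injective (inclusion_injective hKle)
  haveI : Nontrivial K := ⟨⟨⟨v₀, hv₀K⟩, 1, fun e => ne_one_c hZ h hv₀ (congrArg Subtype.val e)⟩⟩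
  have hEK : ⁅K, K⁆ ≤ K := commutator_le_left K K
  have hE : ∀ v ∈ ⁅K, K⁆, cc v ≠ c := by
    intro v hv hvc
    refine ne_of_lt (Group.IsSolvable.commutator_lt_top_of_nontrivial K) ?_
    apply Subgroup.map_injective K.subtype_injective
    rw [_root_.commutator_def, map_commutator, ← MonoidHom.range_eq_map, range_subtype]
    exact le_antisymm hEK (hK.le_of_le ⟨inferInstance, v, hv, hvc⟩ hEK)
  obtain ⟨s, hs, k, hk, -, hu⟩ := prime_c hZ h hv₀
  have huK : v₀ ^ k ∈ K := pow_mem hv₀K k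
  generalize v₀ ^ k = u at hk hu huK
  haveI : Fact s.Prime := ⟨hs⟩
  have hsc : s ∣ c := hk ▸ hu ▸ orderOf_dvd_cc (self_mem u)
  obtain ⟨S⟩ : Nonempty (Sylow s K) := inferInstance
  obtain ⟨S', hS'⟩ : ∃ S' : Subgroup G, S' = (S : Subgroup K).map K.subtype := ⟨_, rfl⟩
  have htop : normalizer (S' : Set G) ⊔ K = ⊤ := hS' ▸ S.normalizer_sup_eq_top
  have hS'K : S' ≤ K := hS' ▸ map_subtype_le _
  have hS'p : IsPGroup s S' := hS' ▸ S.2.map _
  have hS'c : ∀ v ∈ S', v ≠ 1 → cc v = c := fun v hv hv1 => by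
    obtain ⟨i, hi⟩ := IsPGroup.iff_orderOf.1 hS'p ⟨v, hv⟩
    rw [Subgroup.orderOf_mk] at hi
    exact typ_c hZ h hns hv1 (dvd_c_of_pow hZ h hns hs hsc hi)
  have hS'1 : ∀ v ∈ S', v ∈ ⁅K, K⁆ → v = 1 := fun v hv hvE => by_contra fun hv1 => hE v hvE (hS'c v hv hv1)
  have hab : ∀ v ∈ S', ∀ v' ∈ S', v * v' = v' * v := fun v hv v' hv' =>
    commutatorElement_eq_one_iff_mul_comm.1 (hS'1 _
      (mul_mem (mul_mem (mul_mem hv hv') (inv_mem hv)) (inv_mem hv'))
      (commutator_mem_commutator (hS'K hv) (hS'K hv')))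
  haveI : IsMulCommutative S' := ⟨⟨fun v v' => Subtype.ext (hab v v.2 v' v'.2)⟩⟩
  have hS'ne : S' ≠ ⊥ := by
    rw [hS', Ne, Subgroup.map_eq_bot_iff_of_injective _ K.subtype_injective]
    refine S.ne_bot_of_dvd_card ?_
    rw [← hk, ← Subgroup.orderOf_mk u huK]
    exact orderOf_dvd_natCard _
  obtain ⟨⟨v, hvS⟩, hv1'⟩ := ne_bot_iff_exists_ne_one.1 hS'ne
  have hv1 : v ≠ 1 := fun e => hv1' (Subtype.ext e)
  by_cases hE0 : ⁅K, K⁆ = ⊥
  swap
  · refine hns (solvable_of_sup_eq_top (N := K) inferInstance ?_ htop)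
    haveI : IsCyclic S' := CfsgLib.Coprime.IsFpfOn.isCyclic (K := ⁅K, K⁆)
      (fun g _ => by rw [normalizer_eq_top_iff.2 inferInstance]; trivial)
      (fun g hg hg1 => eq_bot_iff.2 fun e he => mem_bot.2 (by
        by_contra he1
        obtain ⟨he', heg⟩ := mem_inf.1 he
        exact hE e he' (typ_c hZ h hns he1 (hS'c g hg hg1 ▸ orderOf_dvd_cc heg)))) hE0
    obtain ⟨⟨g, hg⟩, hgen⟩ := IsCyclic.exists_generator (α := S')
    have hSg : S' = zpowers g := le_antisymm (fun z hz => by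
      obtain ⟨j, hj⟩ := mem_zpowers_iff.1 (hgen ⟨z, hz⟩)
      exact mem_zpowers_iff.2 ⟨j, by rw [← show ((⟨g, hg⟩ : S') ^ j : S').1 = z from congrArg Subtype.val hj,
        SubgroupClass.coe_zpow]⟩) (zpowers_le.2 hg)
    rw [hSg]
    refine solvable_normalizer_zpowers (solvable_Cw hZ h hns (hS'c g hg fun e => hv1 ?_))
    have := hSg ▸ hvS
    rwa [e, zpowers_one_eq_bot, mem_bot] at this
  -- the Sylow subgroup is normal
  haveI : IsMulCommutative K := ⟨⟨fun p q => Subtype.ext (commutatorElement_eq_one_iff_mul_comm.1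
    (mem_bot.1 (hE0 ▸ commutator_mem_commutator p.2 q.2)))⟩⟩
  haveI : (S : Subgroup K).Normal := inferInstance
  haveI := Sylow.characteristic_of_normal S inferInstance
  haveI hS'n : S'.Normal := hS' ▸ ConjAct.normal_of_characteristic_of_normal
  have hcent : centralizer ({v} : Set G) = centralizer (S' : Set G) := by
    refine le_antisymm (fun g hg => mem_centralizer_iff.2 fun p hp => ?_)
      (centralizer_le (Set.singleton_subset_iff.2 hvS))
    rcases eq_or_ne g 1 with rfl | hg1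
    · rw [mul_one, one_mul]
    rcases pp_or_two hZ c (hu ▸ Nat.card_pos.ne') with ⟨t, i, ht, hc⟩ | htwo
    · have hgc : cc g = c := typ_c hZ h hns hg1 (hS'c v hvS hv1 ▸ orderOf_dvd_cc hg)
      have hst : s = t := (Nat.prime_dvd_prime_iff_eq hs ht).1 (hs.dvd_of_dvd_pow (hc ▸ hsc))
      subst hst
      have hidx : ¬ s ∣ (C[g]).index := fun hd => hs.ne_one (Nat.eq_one_of_dvd_coprimes
        (card_mul_eq hZ h hns).2 (index_c hZ h hns hgc ▸ hd) hsc)
      let P : Sylow s G := (IsPGroup.of_card (n := i) (hgc.trans hc) : IsPGroup s C[g]).toSylow hidx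
      have hle : S' ≤ C[g] := by
        rw [← IsPGroup.toSylow_coe (IsPGroup.of_card (n := i) (hgc.trans hc) : IsPGroup s C[g]) hidx]
        exact (CfsgLib.Coprime.le_pCore hS'p).trans (CfsgLib.Coprime.pCore_le_sylow P)
      exact mem_C.1 (hle hp)
    · exact ((C_eq hZ h hns htwo (hS'c v hvS hv1) hv1 (self_mem v) hv1).2 g hg p
        (mem_C.2 (hab p hp v hvS))).symm
  haveI hWn : (centralizer ({v} : Set G)).Normal := hcent ▸ (inferInstance : (centralizer (S' : Set G)).Normal)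
  obtain ⟨hbc, hco⟩ := card_mul_eq hZ h hns
  have hvc := hS'c v hvS hv1
  obtain ⟨B, hB⟩ := exists_right_complement'_of_coprime (N := C[v])
    (by rw [index_c hZ h hns hvc, show Nat.card C[v] = c from hvc]; exact hco.symm)
  have hBc : Nat.card B = b := (hB.symm.index_eq_card).symm.trans (index_c hZ h hns hvc)
  refine hns (solvable_of_sup_eq_top (N := C[v]) (solvable_Cw hZ h hns hvc)
    (solvable_of_two_orders (K := B) (v := a) (w := b) fun p hp hp1 => ?_)
    (by rw [sup_comm]; exact hB.sup_eq_top))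
  have hpb : orderOf p ∣ b := hBc ▸ orderOf_dvd_natCard _ hp
  have hle : C[p] ≤ B := by
    intro g hg
    obtain ⟨w', hw', β, hβ, rfl⟩ : ∃ w' ∈ C[v], ∃ β ∈ B, g = w' * β := by
      have := hB.sup_eq_top ▸ mem_top g
      obtain ⟨w', hw', β, hβ, e⟩ := mem_sup_of_normal_left.1 this
      exact ⟨w', hw', β, hβ, e.symm⟩
    have e : w'⁻¹ * (p * w' * p⁻¹) = β * p * β⁻¹ * p⁻¹ := by
      have h1 := mem_C.1 hg
      calc w'⁻¹ * (p * w' * p⁻¹) = w'⁻¹ * (p * (w' * β)) * β⁻¹ * p⁻¹ := by group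
        _ = w'⁻¹ * (w' * β * p) * β⁻¹ * p⁻¹ := by rw [h1]
        _ = _ := by group
    have h2 : w'⁻¹ * (p * w' * p⁻¹) = 1 := mem_bot.1 (hB.disjoint.le_bot
      (mem_inf.2 ⟨mul_mem (inv_mem hw') (hWn.conj_mem w' hw' p),
        e ▸ mul_mem (mul_mem (mul_mem hβ hp) (inv_mem hβ)) (inv_mem hp)⟩))
    have h3 : w' * p = p * w' := eq_mul_inv_iff_mul_eq.1 (inv_mul_eq_one.1 h2)
    rcases eq_or_ne w' 1 with rfl | hw'1
    · rwa [one_mul]
    exfalso
    rcases typ_ab hZ h hns hp1 hpb with e' | e'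
    all_goals
      have hwb := order_dvd_b_of_commute hZ h hns hp1 (by
        rw [e']; first | exact ne_ac hZ h | exact ne_bc hZ h) h3
      exact hw'1 (orderOf_eq_one_iff.1 (Nat.eq_one_of_dvd_coprimes hco hwb (hvc ▸ orderOf_dvd_cc hw')))
  rw [inf_of_le_left hle]
  rcases typ_ab hZ h hns hp1 hpb with e | e
  · exact Or.inl e
  · exact Or.inr (Or.inl e)

/-- An abelian Hall subgroup with trivial intersections exists. -/
theorem exists_W : ∃ W : Subgroup G, TIHall W c := by
  obtain ⟨w, hw1, hw⟩ := h.exc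
  refine ⟨C[w], ?_⟩
  obtain ⟨hbc, hco⟩ := card_mul_eq hZ h hns
  have hab : ∀ x ∈ C[w], ∀ x' ∈ C[w], x * x' = x' * x := by
    rcases pp_or_two hZ c (hw ▸ Nat.card_pos.ne') with ⟨s, i, hs, hc⟩ | htwo
    swap
    · exact (C_eq hZ h hns htwo hw hw1 (self_mem w) hw1).2
    haveI : Fact s.Prime := ⟨hs⟩
    obtain ⟨R, hRn, hRs, hR⟩ := exists_rad (G := G)
    haveI := hRn
    have hR1 : R ≠ ⊥ := by
      obtain ⟨y, hy1, hy⟩ := h.exb
      intro e
      exact hy1 (mem_bot.1 (e ▸ mem_rad_of_class_prime_pow hR hs ((index_b hZ h hns hy).trans hc)))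
    have hcr : ∀ r ∈ R, r ≠ 1 → ∀ g : G, g * r = r * g → orderOf g ∣ b := fun r hr hr1 g hg =>
      order_dvd_b_of_commute hZ h hns hr1 (rad_pi hZ h hns hRs hr) hg
    have hfpf : ∀ {A : Subgroup G}, (∀ g ∈ A, orderOf g ∣ c) → CfsgLib.Coprime.IsFpfOn A R := by
      intro A hA g hg hg1
      refine eq_bot_iff.2 fun r hr => mem_bot.2 ?_
      by_contra hr1
      exact hg1 (orderOf_eq_one_iff.1 (Nat.eq_one_of_dvd_coprimes hco
        (hcr r (mem_inf.1 hr).1 hr1 g (mem_C.1 (mem_inf.1 hr).2).symm) (hA g hg)))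
    have hnR : ∀ A : Subgroup G, A ≤ normalizer (R : Set G) := fun A g _ => by
      rw [normalizer_eq_top_iff.2 inferInstance]; trivial
    obtain ⟨i', rfl⟩ : ∃ i', i = i' + 1 := ⟨i - 1, by
      rcases Nat.eq_zero_or_pos i with e | e
      · exfalso
        have := hw ▸ orderOf_dvd_cc (self_mem w)
        rw [hc, e, pow_zero, Nat.dvd_one] at this
        exact hw1 (orderOf_eq_one_iff.1 this)
      · omega⟩
    have hs2 : s ≠ 2 := by
      rintro rfl
      obtain ⟨⟨t, htw⟩, hto⟩ := exists_prime_orderOf_dvd_card' (G := C[w]) 2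
        (by rw [show Nat.card C[w] = c from hw, hc]; exact dvd_pow_self 2 i'.succ_ne_zero)
      rw [Subgroup.orderOf_mk] at hto
      have ht1 : t ≠ 1 := fun e => by rw [e, orderOf_one] at hto; omega
      have htc : cc t = c := typ_c hZ h hns ht1 (hw ▸ orderOf_dvd_cc htw)
      have hcj : ∀ g : G, orderOf (g * t * g⁻¹) = 2 := fun g => by rw [orderOf_conj_eq, hto]
      have hinv : ∀ t' : G, orderOf t' = 2 → ∀ r ∈ R, t' * r * t'⁻¹ = r⁻¹ := fun t' ht' r hr =>
        (hfpf (A := zpowers t') fun g hg => by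
          refine (orderOf_dvd_of_mem_zpowers hg).trans ?_
          rw [ht', hc]
          exact dvd_pow_self 2 i'.succ_ne_zero).involution_inverts (hnR _) (mem_zpowers t') ht' r hr
      obtain ⟨K₀, hK₀⟩ : ∃ K₀ : Subgroup G, K₀ = centralizer (R : Set G) := ⟨_, rfl⟩
      haveI : K₀.Normal := hK₀ ▸ inferInstance
      have hKb : ∀ g ∈ K₀, orderOf g ∣ b := fun g hg => by
        obtain ⟨⟨r, hr⟩, hr1⟩ := ne_bot_iff_exists_ne_one.1 hR1
        exact hcr r hr (fun e => hr1 (Subtype.ext e)) g ((mem_centralizer_iff.1 (hK₀ ▸ hg) r hr).symm)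
      have hKcard : Nat.card K₀ ∣ b := by
        refine Nat.Coprime.dvd_of_dvd_mul_right ?_ (hbc.symm ▸ card_subgroup_dvd_card K₀ : Nat.card K₀ ∣ b * c)
        rw [hc]
        refine Nat.Coprime.pow_right _ (Nat.Coprime.symm (Nat.prime_two.coprime_iff_not_dvd.2 fun hd => ?_))
        obtain ⟨⟨g, hg⟩, hgo⟩ := exists_prime_orderOf_dvd_card' (G := K₀) 2 hd
        rw [Subgroup.orderOf_mk] at hgo
        exact absurd (Nat.eq_one_of_dvd_coprimes hco (hgo ▸ hKb g hg)
          (hc ▸ dvd_pow_self 2 i'.succ_ne_zero)) (by norm_num)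
      have hbK : b ≤ Nat.card K₀ := by
        rw [← index_c hZ h hns htc, ← CfsgLib.Char.card_isConj]
        let f : {x : G // IsConj t x} → K₀ := fun x => ⟨t⁻¹ * x.1, by
          obtain ⟨g, hg⟩ := isConj_iff.1 x.2
          rw [hK₀, mem_centralizer_iff]
          intro r hr
          have h1 := hinv x.1 (by rw [← hg]; exact hcj g) r hr
          have h2 := hinv t hto r hr
          rw [← h1] at h2
          calc r * (t⁻¹ * x.1) = t⁻¹ * (t * r * t⁻¹) * x.1 := by group
            _ = t⁻¹ * (x.1 * r * x.1⁻¹) * x.1 := by rw [h2]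
            _ = _ := by group⟩
        exact Nat.card_le_card_of_injective f fun x x' e =>
          Subtype.ext (mul_left_cancel (congrArg Subtype.val e))
      have hKb' : Nat.card K₀ = b := le_antisymm (Nat.le_of_dvd (Nat.pos_of_ne_zero fun e => by
        obtain ⟨y, -, hy⟩ := h.exb
        rw [← hy] at e
        exact Nat.card_pos.ne' e) hKcard) hbK
      have hKfpf : CfsgLib.Coprime.IsFpfOn (zpowers t) K₀ := fun g hg hg1 => eq_bot_iff.2 fun r hr => mem_bot.2 (by
        by_contra hr1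
        have hgc := typ_c hZ h hns hg1 ((orderOf_dvd_of_mem_zpowers hg).trans (by rw [hto, hc]; exact dvd_pow_self 2 i'.succ_ne_zero))
        exact hr1 (orderOf_eq_one_iff.1 (Nat.eq_one_of_dvd_coprimes hco (hKb r (mem_inf.1 hr).1)
          (hgc ▸ orderOf_dvd_cc (mem_inf.1 hr).2))))
      haveI : IsMulCommutative K₀ := ⟨⟨fun p q => Subtype.ext (by
        have h' := hKfpf.involution_inverts
          (fun g _ => by rw [normalizer_eq_top_iff.2 inferInstance]; trivial) (mem_zpowers t) hto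
        have e := h' ((p : G) * q) (mul_mem p.2 q.2)
        rw [show t * ((p : G) * q) * t⁻¹ = (t * p * t⁻¹) * (t * q * t⁻¹) by group, h' p p.2, h' q q.2,
          mul_inv_rev] at e
        calc ((p * q : K₀) : G) = ((q : G)⁻¹ * (p : G)⁻¹)⁻¹ := by rw [mul_inv_rev, inv_inv, inv_inv]; rfl
          _ = _ := by rw [← e, mul_inv_rev, inv_inv, inv_inv]; rfl)⟩⟩
      haveI : Group.IsSolvable (G ⧸ K₀) := by
        have hp2 : IsPGroup 2 (G ⧸ K₀) := IsPGroup.of_card (n := i' + 1) (by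
          have h1 := card_mul_index K₀
          rw [hKb', ← hbc, hc] at h1
          exact Nat.eq_of_mul_eq_mul_left (hKb' ▸ Nat.card_pos) h1)
        haveI := hp2.isNilpotent
        infer_instance
      haveI : Group.IsSolvable K₀ := Group.isSolvable_of_comm fun p q => mul_comm' p q
      exact hns (Group.isSolvable_of_ker_le_range K₀.subtype (QuotientGroup.mk' K₀) (by simp))
    have hP : IsPGroup s C[w] := IsPGroup.of_card (n := i' + 1) (hw.trans hc)
    obtain ⟨P⟩ : Nonempty (Sylow s C[w]) := inferInstance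
    have hPt : (P : Subgroup C[w]) = ⊤ := (P.3 (hP.to_subgroup ⊤) le_top).symm
    have hcyc : IsCyclic C[w] := by
      rcases (hfpf (A := C[w]) fun g hg => hw ▸ orderOf_dvd_cc hg).sylow_cyclic_or_quaternion (hnR _) hR1 P
        with hh | ⟨e, -⟩
      · haveI := hh
        exact isCyclic_of_surjective (P : Subgroup C[w]).subtype
          fun g => ⟨⟨g, hPt ▸ mem_top g⟩, rfl⟩
      · exact absurd e hs2
    intro x hx x' hx'
    letI := IsCyclic.commGroup (α := C[w])
    exact congrArg Subtype.val (mul_comm (⟨x, hx⟩ : C[w]) ⟨x', hx'⟩)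
  exact ⟨hw, fun u hu hu1 => (eq_of_le_of_cc (fun g hg => mem_C.2 (hab g hg u hu))
    (hw.trans (typ_c hZ h hns hu1 (hw ▸ orderOf_dvd_cc hu)).symm)).symm, hab⟩

/-- Elements of the second kind are conjugate into the Hall subgroup. -/
theorem exists_conj {W : Subgroup G} (hW : TIHall W c) {u : G} (hu : cc u = c) :
    ∃ g : G, g * u * g⁻¹ ∈ W := by
  obtain ⟨hbc, hco⟩ := card_mul_eq hZ h hns
  obtain ⟨t, ht, htc⟩ := Nat.exists_prime_and_dvd (n := c) fun e => by
    rw [← hu] at e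
    have := orderOf_dvd_cc (self_mem u)
    rw [e, Nat.dvd_one] at this
    exact ne_one_c hZ h hu (orderOf_eq_one_iff.1 this)
  haveI : Fact t.Prime := ⟨ht⟩
  obtain ⟨⟨z, hzw⟩, hzo⟩ := exists_prime_orderOf_dvd_card' (G := W) t (by rw [hW.card]; exact htc)
  rw [Subgroup.orderOf_mk] at hzo
  -- a Sylow subgroup of `G` inside the other centralizer
  have htu : t ∣ Nat.card C[u] := by rw [← hu] at htc; exact htc
  obtain ⟨P⟩ : Nonempty (Sylow t C[u]) := inferInstance
  have hP : ¬ t ∣ ((P : Subgroup C[u]).map (C[u]).subtype).index := by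
    rw [index_map_subtype]
    intro hd
    rcases ht.dvd_mul.1 hd with h1 | h1
    · exact P.not_dvd_index h1
    · have h2 := card_mul_index C[u]
      rw [show Nat.card C[u] = c from hu, ← hbc, mul_comm b c] at h2
      rw [Nat.eq_of_mul_eq_mul_left (hu ▸ Nat.card_pos) h2] at h1
      exact ht.ne_one (Nat.dvd_one.1 (hco ▸ Nat.dvd_gcd h1 htc))
  let Q : Sylow t G := (P.2.map _).toSylow hP
  obtain ⟨R, hR⟩ := (IsPGroup.of_card (n := 1) (by rw [Nat.card_zpowers, hzo, pow_one]) :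
    IsPGroup t (zpowers z)).exists_le_sylow
  obtain ⟨g, hg⟩ := MulAction.exists_smul_eq G Q R
  have hzQ : g⁻¹ * z * g ∈ C[u] := by
    have h1 : z ∈ (g • Q : Sylow t G).toSubgroup := by rw [hg]; exact hR (mem_zpowers z)
    rw [Sylow.coe_subgroup_smul, pointwise_smul_def] at h1
    obtain ⟨d, hd, e⟩ := h1
    have e' : z = g * d * g⁻¹ := e.symm
    rw [e', show g⁻¹ * (g * d * g⁻¹) * g = d by group]
    have hd' : d ∈ (P : Subgroup C[u]).map (C[u]).subtype := hd
    exact map_subtype_le _ hd'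
  have hz1 : z ≠ 1 := fun e => ht.ne_one (by rw [← hzo, e, orderOf_one])
  refine ⟨g, ?_⟩
  rw [← hW.cent z hzw hz1, mem_C]
  have := mem_C.1 hzQ
  calc g * u * g⁻¹ * z = g * (u * (g⁻¹ * z * g)) * g⁻¹ := by group
    _ = g * (g⁻¹ * z * g * u) * g⁻¹ := by rw [this]
    _ = z * (g * u * g⁻¹) := by group

theorem exists_conj_c {W : Subgroup G} (hW : TIHall W c) {v : G} (hv : v ∈ W) (hv1 : v ≠ 1) :
    cc v = c :=
  typ_c hZ h hns hv1 (hW.card ▸ orderOf_dvd_natCard _ hv)

/-- An element normalizing the Hall subgroup whose order divides `c` lies in it. -/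
theorem mem_of_normalizes {W : Subgroup G} (hW : TIHall W c) {x : G} (hx : x ∈ normalizer (W : Set G))
    (hd : orderOf x ∣ c) : x ∈ W := by
  obtain ⟨hbc, hco⟩ := card_mul_eq hZ h hns
  haveI : (W.subgroupOf (normalizer (W : Set G))).Normal := normal_in_normalizer
  have h1 : orderOf ((⟨x, hx⟩ : normalizer (W : Set G)) :
      normalizer (W : Set G) ⧸ W.subgroupOf (normalizer (W : Set G))) ∣ b := by
    refine (_root_.orderOf_dvd_natCard _).trans ?_
    show (W.subgroupOf (normalizer (W : Set G))).index ∣ b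
    have h2 : W.relIndex (normalizer (W : Set G)) * (normalizer (W : Set G)).index = W.index :=
      relIndex_mul_index le_normalizer
    have h3 := card_mul_index W
    rw [hW.card, ← hbc, mul_comm b c] at h3
    rw [Nat.eq_of_mul_eq_mul_left (hW.card ▸ Nat.card_pos) h3] at h2
    exact ⟨_, h2.symm⟩
  have h2 : orderOf ((⟨x, hx⟩ : normalizer (W : Set G)) :
      normalizer (W : Set G) ⧸ W.subgroupOf (normalizer (W : Set G))) ∣ c :=
    ((orderOf_map_dvd (QuotientGroup.mk' _) _).trans (by rw [Subgroup.orderOf_mk])).trans hd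
  exact mem_subgroupOf.1 ((QuotientGroup.eq_one_iff _).1
    (orderOf_eq_one_iff.1 (Nat.eq_one_of_dvd_coprimes hco h1 h2)))

/-- No element of the first kind normalizes the Hall subgroup. -/
theorem not_normalizes {W : Subgroup G} (hW : TIHall W c) {y : G} (hy : cc y = b) :
    y ∉ normalizer (W : Set G) := by
  intro hn
  obtain ⟨w, hw1, hw⟩ := h.exc
  obtain ⟨g₀, hg₀⟩ := exists_conj hZ h hns hW hw
  have hu1 : g₀ * w * g₀⁻¹ ≠ 1 := fun e => hw1 (conj_eq_one_iff.1 e)
  generalize g₀ * w * g₀⁻¹ = u at hg₀ hu1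
  have huc := exists_conj_c hZ h hns hW hg₀ hu1
  have hall : ∀ g : G, g * y * g⁻¹ ∈ normalizer (W : Set G) := by
    intro g
    obtain ⟨d, hd1, hd2⟩ := pair_conj hZ h hy huc g 1
    rw [inv_one, mul_one, one_mul] at hd2
    have hdm : d ∈ W := hW.cent u hg₀ hu1 ▸ mem_C.2 (mul_inv_eq_iff_eq_mul.1 hd2)
    rw [← hd1]
    exact mul_mem (mul_mem (le_normalizer hdm) hn) (inv_mem (le_normalizer hdm))
  obtain ⟨M, hM⟩ : ∃ M : Subgroup G, M = normalClosure ({y} : Set G) := ⟨_, rfl⟩
  haveI : M.Normal := hM ▸ normalClosure_normal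
  have hMN : M ≤ normalizer (W : Set G) := by
    rw [hM]
    refine (closure_le _).2 fun x hx => ?_
    obtain ⟨y', hy', hc'⟩ := Group.mem_conjugatesOfSet_iff.1 hx
    rw [Set.mem_singleton_iff.1 hy'] at hc'
    obtain ⟨d, rfl⟩ := isConj_iff.1 hc'
    exact hall d
  haveI : (M ⊓ W).Normal := ⟨fun x hx g => by
    obtain ⟨hxM, hxW⟩ := mem_inf.1 hx
    refine mem_inf.2 ⟨Normal.conj_mem inferInstance x hxM g, ?_⟩
    refine mem_of_normalizes hZ h hns hW (hMN (Normal.conj_mem inferInstance x hxM g)) ?_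
    rw [orderOf_conj_eq]
    exact hW.card ▸ orderOf_dvd_natCard _ hxW⟩
  haveI : Group.IsSolvable W := Group.isSolvable_of_comm fun p q => Subtype.ext (hW.comm p p.2 q q.2)
  have hMW : ∀ x ∈ M ⊓ W, x = 1 := fun x hx => by_contra fun hx1 =>
    rad_pi hZ h hns (Group.isSolvable_of_isSolvable_injective
      (inclusion_injective (inf_le_right : M ⊓ W ≤ W))) hx (exists_conj_c hZ h hns hW (mem_inf.1 hx).2 hx1)
  refine no_commute hZ h hns hy huc (commutatorElement_eq_one_iff_mul_comm.1 (hMW _ (mem_inf.2 ⟨?_, ?_⟩)))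
  · have hyM : y ∈ M := hM ▸ subset_normalClosure (Set.mem_singleton y)
    rw [commutatorElement_def, show y * u * y⁻¹ * u⁻¹ = y * (u * y⁻¹ * u⁻¹) by group]
    exact mul_mem hyM (Normal.conj_mem inferInstance _ (inv_mem hyM) u)
  · rw [commutatorElement_def]
    exact mul_mem ((mem_normalizer_iff.1 hn u).1 hg₀) (inv_mem hg₀)

/-- The Hall subgroup is not its own normalizer, and the index is bounded by the least order. -/
theorem normalizer_index {W : Subgroup G} (hW : TIHall W c) :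
    1 < (W.subgroupOf (normalizer (W : Set G))).index ∧ (W.subgroupOf (normalizer (W : Set G))).index ≤ a := by
  obtain ⟨hbc, hco⟩ := card_mul_eq hZ h hns
  set N := normalizer (W : Set G) with hNdef
  set e := (W.subgroupOf N).index with hedef
  have hWN : Nat.card (W.subgroupOf N) = c := by
    rw [Nat.card_congr (subgroupOfEquivOfLe le_normalizer).toEquiv, hW.card]
  have hcN : c * e = Nat.card N := by rw [← hWN]; exact card_mul_index _
  have hc0 : 0 < c := hW.card ▸ Nat.card_pos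
  have heb : e ∣ b := by
    have h1 := card_subgroup_dvd_card N
    rw [← hcN, ← hbc, mul_comm b c] at h1
    exact Nat.dvd_of_mul_dvd_mul_left hc0 h1
  have he1 : e ≠ 1 := by
    intro he
    have hNW : N ≤ W := subgroupOf_eq_top.1 (index_eq_one.1 he)
    obtain ⟨N₁, hN₁n, hN₁, hN₁i, hN₁s⟩ := exists_inter_compl (G := G) c.primeFactors fun p hp => by
      rw [Nat.mem_primeFactors] at hp
      obtain ⟨hp, hpc, -⟩ := hp
      haveI : Fact p.Prime := ⟨hp⟩
      refine ⟨hp, ?_⟩
      obtain ⟨P⟩ : Nonempty (Sylow p W) := inferInstance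
      have hidx : ¬ p ∣ ((P : Subgroup W).map W.subtype).index := by
        rw [index_map_subtype]
        refine hp.not_dvd_mul P.not_dvd_index fun hd => ?_
        have h3 := card_mul_index W
        rw [hW.card, ← hbc, mul_comm b c] at h3
        rw [Nat.eq_of_mul_eq_mul_left hc0 h3] at hd
        exact hp.ne_one (Nat.eq_one_of_dvd_coprimes hco hd hpc)
      let Q : Sylow p G := (P.2.map W.subtype).toSylow hidx
      have hQW : (Q : Subgroup G) ≤ W := by
        show ((P.2.map W.subtype).toSylow hidx : Subgroup G) ≤ W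
        rw [IsPGroup.toSylow_coe]
        exact map_subtype_le _
      refine CfsgLib.Fusion.hasNormalPComplement_of_normalizer_le_centralizer Q fun g hg => ?_
      obtain ⟨⟨x, hx⟩, hx1⟩ := ne_bot_iff_exists_ne_one.1 (Q.ne_bot_of_dvd_card
        (hpc.trans (hW.card ▸ card_subgroup_dvd_card W)))
      have hx1' : x ≠ 1 := fun e => hx1 (Subtype.ext e)
      have hgW : g ∈ W := hNW (mem_normalizer_iff.2 fun u => by
        have h1 := hW.cent x (hQW hx) hx1'
        have h2 := hW.cent _ (hQW ((mem_normalizer_iff.1 hg x).1 hx)) (fun e => hx1' (conj_eq_one_iff.1 e))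
        constructor
        · intro hu
          rw [← h2, mem_C, show g * u * g⁻¹ * (g * x * g⁻¹) = g * (u * x) * g⁻¹ by group,
            mem_C.1 (h1.ge hu)]
          group
        · intro hu
          rw [← h2, mem_C] at hu
          rw [← h1, mem_C]
          calc u * x = g⁻¹ * (g * u * g⁻¹ * (g * x * g⁻¹)) * g := by group
            _ = _ := by rw [hu]; group)
      exact mem_centralizer_iff.2 fun z hz => hW.comm z (hQW hz) g hgW
    haveI := hN₁n
    refine hns (hN₁s (solvable_of_two_orders (K := N₁) (v := a) (w := b) fun x hx hx1 => ?_))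
    have hpi : ∀ {z : G}, z ∈ N₁ → z ≠ 1 → orderOf z ∣ b := by
      intro z hz hz1
      rcases order_cases hZ h hns hz1 with ⟨h', -, -⟩ | ⟨h', -, -⟩
      · exact h'
      · obtain ⟨t, ht, htd⟩ := Nat.exists_prime_and_dvd fun e => hz1 (orderOf_eq_one_iff.1 e)
        exact absurd (htd.trans (orderOf_dvd_natCard _ hz))
          (hN₁ t (Nat.mem_primeFactors.2 ⟨ht, htd.trans h', hc0.ne'⟩))
    have hxc : cc x ≠ c := by
      rcases typ_ab hZ h hns hx1 (hpi hx hx1) with e | e <;> rw [e]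
      · exact ne_ac hZ h
      · exact ne_bc hZ h
    have hle : C[x] ≤ N₁ := by
      intro g hg
      rw [← QuotientGroup.eq_one_iff (N := N₁), ← orderOf_eq_one_iff]
      by_contra hne
      obtain ⟨t, ht, htd⟩ := Nat.exists_prime_and_dvd hne
      exact ht.ne_one (Nat.eq_one_of_dvd_coprimes hco
        (htd.trans ((orderOf_map_dvd (QuotientGroup.mk' N₁) g).trans
          (order_dvd_b_of_commute hZ h hns hx1 hxc (mem_C.1 hg))))
        (Nat.dvd_of_mem_primeFactors (hN₁i t ht (htd.trans (orderOf_dvd_natCard _)))))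
    rw [inf_of_le_left hle]
    rcases typ_ab hZ h hns hx1 (hpi hx hx1) with e | e
    · exact Or.inl e
    · exact Or.inr (Or.inl e)
  refine ⟨Nat.one_lt_iff_ne_zero_and_ne_one.2 ⟨index_ne_zero_of_finite, he1⟩, ?_⟩
  haveI : (W.subgroupOf N).Normal := normal_in_normalizer
  obtain ⟨H, hH⟩ := exists_right_complement'_of_coprime (N := W.subgroupOf N)
    (by rw [hWN]; exact (hco.symm).coprime_dvd_right heb)
  have hHe : Nat.card H = e := by
    have h1 := hH.card_mul
    rw [hWN, ← hcN] at h1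
    exact Nat.eq_of_mul_eq_mul_left hc0 h1
  have hH1 : H ≠ ⊥ := fun e0 => he1 (by rw [← hHe, e0, Subgroup.card_bot])
  have hfpf : CfsgLib.Coprime.IsFpfOn H (W.subgroupOf N) := by
    intro k hk hk1
    refine eq_bot_iff.2 fun v hv => ?_
    obtain ⟨hvW, hvk⟩ := mem_inf.1 hv
    rw [mem_bot]
    by_contra hv1
    have hkW : (k : G) ∈ centralizer ({(v : G)} : Set G) :=
      mem_C.2 (congrArg Subtype.val (mem_centralizer_singleton_iff.1 hvk)).symm
    rw [hW.cent (v : G) hvW fun e => hv1 (Subtype.ext e)] at hkW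
    exact hk1 (mem_bot.1 (hH.disjoint.le_bot ⟨mem_subgroupOf.2 hkW, hk⟩))
  have hK : W.subgroupOf N ≠ ⊥ := fun e0 => by
    rw [e0, Subgroup.card_bot] at hWN
    obtain ⟨w, hw1, hw⟩ := h.exc
    have := hw ▸ orderOf_dvd_cc (self_mem w)
    rw [← hWN, Nat.dvd_one] at this
    exact hw1 (orderOf_eq_one_iff.1 this)
  obtain ⟨⟨⟨h₀, hh₀H⟩, hh₀c⟩, hh₀1⟩ := ne_bot_iff_exists_ne_one.1
    (CfsgLib.Coprime.frob_complement_center_ne_bot hH hK hH1 hfpf)
  have hh₀ne : (h₀ : G) ≠ 1 := fun e0 => hh₀1 (Subtype.ext (Subtype.ext (Subtype.ext e0)))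
  have hh₀a : cc (h₀ : G) = a := by
    have hd : orderOf (h₀ : G) ∣ b := by
      rw [orderOf_coe]; exact (hHe ▸ orderOf_dvd_natCard _ hh₀H).trans heb
    rcases typ_ab hZ h hns hh₀ne hd with e0 | e0
    · exact e0
    · exact absurd h₀.2 (not_normalizes hZ h hns hW e0)
  have hle : (H.map N.subtype) ≤ centralizer ({(h₀ : G)} : Set G) := by
    rintro _ ⟨k, hk, rfl⟩
    exact mem_C.2 (congrArg (fun z : H => ((z : N) : G)) (mem_center_iff.1 hh₀c ⟨k, hk⟩))
  calc e = Nat.card (H.map N.subtype) := by rw [card_map_of_injective N.subtype_injective, hHe]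
    _ ≤ cc (h₀ : G) := Nat.le_of_dvd Nat.card_pos (card_dvd_of_le hle)
    _ = a := hh₀a

end CfsgLib.CIT.ThreeGen
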