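import Cfsg.Agent.Lib.CIT.ThreeGen.Chars
import Cfsg.Agent.S4160

/-!
# A chain forces solvability
-/

set_option autoImplicit false
set_option linter.unusedSectionVars false
set_option linter.style.haveILetI false

namespace CfsgLib.CIT.ThreeGen

open Subgroup
open CfsgLib.CIT.ThreeSizes (cc Chain mem_C self_mem mem_of_commute_mul mul_ne_one_of_coprime
  cc_le eq_of_le_of_cc orderOf_dvd_cc exists_prime_pow exists_full)
open scoped commutatorElement

universe u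

variable {G : Type u} [Group G] [Finite G]

local notation "C[" x "]" => centralizer ({x} : Set G)

theorem cc_conj (g x : G) : cc (g * x * g⁻¹) = cc x := by
  have h1 : (C[g * x * g⁻¹]).index = (C[x]).index := CfsgLib.ClassGraph.cidx_conj g x
  have h2 := card_mul_index C[g * x * g⁻¹]
  rw [h1, ← card_mul_index C[x]] at h2
  exact Nat.eq_of_mul_eq_mul_right (Nat.pos_of_ne_zero index_ne_zero_of_finite) h2

theorem mem_C_conj (g x z : G) : z ∈ C[g * x * g⁻¹] ↔ g⁻¹ * z * g ∈ C[x] := by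
  rw [mem_C, mem_C]
  constructor
  · intro hz
    calc g⁻¹ * z * g * x = g⁻¹ * (z * (g * x * g⁻¹)) * g := by group
      _ = _ := by rw [hz]; group
  · intro hz
    calc z * (g * x * g⁻¹) = g * (g⁻¹ * z * g * x) * g⁻¹ := by group
      _ = _ := by rw [hz]; group

theorem C_conj_congr {x x' : G} (g : G) (h : C[x] = C[x']) : C[g * x * g⁻¹] = C[g * x' * g⁻¹] := by
  ext z
  rw [mem_C_conj, mem_C_conj, h]

variable (hZ : center G = ⊥) {a b c : ℕ} (h : Chain G a b c)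

include hZ h

/-- A chain of centralizers is impossible in a nonsolvable group with trivial centre. -/
theorem no_chain (hns : ¬ Group.IsSolvable G) : False := by
  classical
  obtain ⟨hbc, hco⟩ := card_mul_eq hZ h hns
  obtain ⟨W, hW⟩ := exists_W hZ h hns
  obtain ⟨R, hRn, hRs, hR⟩ := exists_rad (G := G)
  haveI := hRn
  obtain ⟨he1, hea⟩ := normalizer_index hZ h hns hW
  obtain ⟨y₀, -, hy₀⟩ := h.exb
  obtain ⟨w₀, -, hw₀⟩ := h.exc
  have hc0 : 0 < c := hW.card ▸ Nat.card_pos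
  have hb0 : 0 < b := hy₀ ▸ Nat.card_pos
  have hc1 : c ≠ 1 := fun e => ne_one_c hZ h hw₀ (orderOf_eq_one_iff.1
    (Nat.dvd_one.1 (e ▸ hw₀ ▸ orderOf_dvd_cc (self_mem w₀))))
  have hbR : ∀ y : G, cc y = b → y ∈ R := by
    intro y hy
    rcases pp_or_two hZ c hc0.ne' with ⟨s, i, hs, hc⟩ | htwo
    · exact mem_rad_of_class_prime_pow hR hs ((index_b hZ h hns hy).trans hc)
    · haveI := Fintype.ofFinite G
      exact b_mem_rad hZ h hns htwo hRs hR hy
  have hRc : ∀ x ∈ R, cc x ≠ c := fun x hx => rad_pi hZ h hns hRs hx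
  have hRb : ∀ x ∈ R, x ≠ 1 → orderOf x ∣ b := fun x hx hx1 => by
    rcases order_cases hZ h hns hx1 with ⟨h', -, -⟩ | ⟨-, -, h'⟩
    · exact h'
    · exact absurd h' (hRc x hx)
  obtain ⟨p₀, hp₀, hp₀c⟩ := Nat.exists_prime_and_dvd hc1
  haveI : Fact p₀.Prime := ⟨hp₀⟩
  obtain ⟨⟨w, hwW⟩, hwo⟩ := exists_prime_orderOf_dvd_card' (G := W) p₀ (by rw [hW.card]; exact hp₀c)
  rw [Subgroup.orderOf_mk] at hwo
  have hw1 : w ≠ 1 := fun e => hp₀.ne_one (by rw [← hwo, e, orderOf_one])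
  have hWb : ∀ x ∈ W, orderOf x ∣ b → x = 1 := fun x hx hd => orderOf_eq_one_iff.1
    (Nat.eq_one_of_dvd_coprimes hco hd (hW.card ▸ Subgroup.orderOf_dvd_natCard _ hx))
  have hWR : ∀ x ∈ W, x ∈ R → x = 1 := fun x hx hxR => by_contra fun hx1 =>
    hx1 (hWb x hx (hRb x hxR hx1))
  -- a normal subgroup of elements of orders dividing `b` lies in the radical
  have hnil : ∀ K : Subgroup G, K.Normal → (∀ x ∈ K, orderOf x ∣ b) → Group.IsNilpotent K ∧ K ≤ R := by
    intro K hK hKb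
    haveI := hK
    have h1 := isNilpotent_of_fpf_normal (K := K) hp₀ hwo fun k hk hc' =>
      hWb k (hW.cent w hwW hw1 ▸ mem_C.2 hc') (hKb k hk)
    haveI := h1
    exact ⟨h1, hR K hK inferInstance⟩
  haveI hRnil : Group.IsNilpotent R := (hnil R hRn fun x hx => by
    rcases eq_or_ne x 1 with rfl | hx1
    · rw [orderOf_one]; exact one_dvd _
    · exact hRb x hx hx1).1
  -- the index of the normalizer
  obtain ⟨N, hNdef⟩ : ∃ N : Subgroup G, N = normalizer (W : Set G) := ⟨_, rfl⟩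
  obtain ⟨e, hedef⟩ : ∃ e : ℕ, e = (W.subgroupOf N).index := ⟨_, rfl⟩
  rw [← hNdef, ← hedef] at he1 hea
  have hWleN : W ≤ N := hNdef ▸ le_normalizer
  have hNcard : Nat.card N = c * e := by
    rw [← card_mul_index (W.subgroupOf N), ← hedef, Nat.card_congr (subgroupOfEquivOfLe hWleN).toEquiv, hW.card]
  have hNi : N.index * e = b := by
    have h1 := card_mul_index N
    rw [hNcard, ← hbc] at h1
    apply Nat.eq_of_mul_eq_mul_left hc0
    rw [mul_comm c b, ← h1]; ring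
  have hNW : ∀ n ∈ N, ∀ u ∈ W, n * u * n⁻¹ ∈ W := fun n hn u hu =>
    (mem_normalizer_iff.1 (hNdef ▸ hn) u).1 hu
  have hNR : ∀ n ∈ N, n ∈ R → n = 1 := by
    intro n hn hnR
    have h1 : ⁅n, w⁆ = 1 := hWR _ (mul_mem (hNW n hn w hwW) (inv_mem hwW)) (by
      rw [commutatorElement_def, show n * w * n⁻¹ * w⁻¹ = n * (w * n⁻¹ * w⁻¹) by group]
      exact mul_mem hnR (hRn.conj_mem _ (inv_mem hnR) w))
    exact hWR n (hW.cent w hwW hw1 ▸ mem_C.2 (commutatorElement_eq_one_iff_mul_comm.1 h1)) hnR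
  obtain ⟨t, ht, hte⟩ := Nat.exists_prime_and_dvd he1.ne'
  haveI : Fact t.Prime := ⟨ht⟩
  have htb : t ∣ b := hte.trans (hNi ▸ dvd_mul_left e _)
  obtain ⟨⟨n₀, hn₀⟩, hn₀o⟩ := exists_prime_orderOf_dvd_card' (G := N) t (hNcard ▸ hte.mul_left c)
  rw [Subgroup.orderOf_mk] at hn₀o
  have hn₀1 : n₀ ≠ 1 := fun e0 => ht.ne_one (by rw [← hn₀o, e0, orderOf_one])
  -- the deficient primes
  by_cases hdef : ∃ q₁ q₂ : ℕ, q₁ ≠ q₂ ∧
      (q₁.Prime ∧ ∃ z : G, orderOf z = q₁ ∧ cc z = b ∧ ∀ i : ℕ, q₁ ^ i ∣ Nat.card G → q₁ ^ i ∣ cc z) ∧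
      (q₂.Prime ∧ ∃ z : G, orderOf z = q₂ ∧ cc z = b ∧ ∀ i : ℕ, q₂ ^ i ∣ Nat.card G → q₂ ^ i ∣ cc z)
  swap
  · obtain ⟨r, hr, hrall⟩ : ∃ r : ℕ, r.Prime ∧ ∀ q : ℕ, (q.Prime ∧ ∃ z : G, orderOf z = q ∧ cc z = b ∧
        ∀ i : ℕ, q ^ i ∣ Nat.card G → q ^ i ∣ cc z) → q = r := by
      by_cases hex : ∃ q : ℕ, q.Prime ∧ ∃ z : G, orderOf z = q ∧ cc z = b ∧
          ∀ i : ℕ, q ^ i ∣ Nat.card G → q ^ i ∣ cc z
      · obtain ⟨q, hq⟩ := hex
        exact ⟨q, hq.1, fun q' hq' => by_contra fun hne => hdef ⟨q', q, hne, hq', hq⟩⟩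
      · exact ⟨2, Nat.prime_two, fun q hq => absurd ⟨q, hq⟩ hex⟩
    have hcompl : ∀ q : ℕ, q.Prime → q ∣ b → q ≠ r → Cfsg.HasNormalPComplement q G := by
      intro q hq hqb hqr
      have hqc : ¬ q ∣ c := fun hd => hq.ne_one (Nat.eq_one_of_dvd_coprimes hco hqb hd)
      have hpb : ¬ p₀ ∣ b := fun hd => hp₀.ne_one (Nat.eq_one_of_dvd_coprimes hco hd hp₀c)
      obtain ⟨z, hz, hfull⟩ := exists_full q hq (hbc ▸ hqb.mul_right c)
      have hz1 : z ≠ 1 := fun e0 => hq.ne_one (by rw [← hz, e0, orderOf_one])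
      have hza : cc z = a := by
        rcases h.vals z hz1 with e0 | e0 | e0
        · exact e0
        · exact absurd (hrall q ⟨hq, z, hz, e0, hfull⟩) hqr
        · exact absurd (hz ▸ e0 ▸ orderOf_dvd_cc (self_mem z)) hqc
      refine (Cfsg.Agent.S4160.result p₀ q hp₀ hq (fun e0 => hpb (e0 ▸ hqb))
        ⟨y₀, by rw [index_b hZ h hns hy₀]; exact hp₀c⟩ ⟨w₀, by rw [index_c hZ h hns hw₀]; exact hqb⟩
        fun x hd => ?_).resolve_left ?_
      · rcases eq_or_ne x 1 with rfl | hx1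
        · rw [index_eq_one.2 (eq_top_iff.2 fun g _ => mem_C.2 (by rw [mul_one, one_mul]))] at hd
          exact hp₀.ne_one (Nat.dvd_one.1 ((dvd_mul_right p₀ q).trans hd))
        rcases h.vals x hx1 with e0 | e0 | e0
        · rw [index_eq_of_cc (e0.trans hza.symm)] at hd
          exact not_dvd_index_of_full hq hfull ((dvd_mul_left q p₀).trans hd)
        · exact hqc ((dvd_mul_left q p₀).trans (index_b hZ h hns e0 ▸ hd))
        · exact hpb ((dvd_mul_right p₀ q).trans (index_c hZ h hns e0 ▸ hd))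
      · rintro ⟨P, K, hK, hKP⟩
        haveI := hK
        have hpK : ¬ p₀ ∣ Nat.card K := by rw [← hKP.index_eq_card]; exact P.not_dvd_index
        have hKi : K.index = Nat.card (P : Subgroup G) := hKP.symm.index_eq_card
        have hnK : n₀ ∈ K := by
          rw [← QuotientGroup.eq_one_iff (N := K), ← orderOf_eq_one_iff]
          obtain ⟨j, hj⟩ := P.2.exists_card_eq
          refine Nat.eq_one_of_dvd_coprimes (a := t) (b := p₀ ^ j)
            (Nat.Coprime.pow_right j ((Nat.coprime_primes ht hp₀).2 fun e0 => hpb (e0 ▸ htb))) ?_ ?_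
          · rw [← hn₀o]; exact orderOf_map_dvd (QuotientGroup.mk' K) n₀
          · rw [← hj, ← hKi]; exact _root_.orderOf_dvd_natCard _
        have hcm : ⁅n₀, w⁆ = 1 := by
          have hmemK : ⁅n₀, w⁆ ∈ K := by
            rw [commutatorElement_def, show n₀ * w * n₀⁻¹ * w⁻¹ = n₀ * (w * n₀⁻¹ * w⁻¹) by group]
            exact mul_mem hnK (hK.conj_mem _ (inv_mem hnK) w)
          have hp : ⁅n₀, w⁆ ^ p₀ = 1 := by
            rw [commutatorElement_def,
              (show Commute (n₀ * w * n₀⁻¹) w⁻¹ from hW.comm _ (hNW n₀ hn₀ w hwW) _ (inv_mem hwW)).mul_pow,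
              conj_pow, inv_pow, ← hwo, pow_orderOf_eq_one, mul_one, mul_inv_cancel, inv_one, one_mul]
          exact orderOf_eq_one_iff.1 (Nat.eq_one_of_dvd_coprimes (hp₀.coprime_iff_not_dvd.2 hpK)
            (orderOf_dvd_of_pow_eq_one hp) (Subgroup.orderOf_dvd_natCard _ hmemK))
        exact hn₀1 (hWb n₀ (hW.cent w hwW hw1 ▸ mem_C.2 (commutatorElement_eq_one_iff_mul_comm.1 hcm))
          (hn₀o ▸ htb))
    refine hns (solvable_of_compl hr fun p hp hpr hpG => ?_)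
    rcases hp.dvd_mul.1 (hbc.symm ▸ hpG) with hpb | hpc
    · exact Or.inl (hcompl p hp hpb hpr)
    · refine Or.inr fun u hu1 ⟨i, hi⟩ q hq hd => or_iff_not_imp_left.2 fun hqr => hcompl q hq ?_ hqr
      rwa [index_c hZ h hns (typ_c hZ h hns hu1 (dvd_c_of_pow hZ h hns hp hpc hi))] at hd
  obtain ⟨q₁, q₂, hq12, ⟨hq₁, z₁, hz₁, hz₁b, hfull₁⟩, ⟨hq₂, z₂, hz₂, hz₂b, hfull₂⟩⟩ := hdef
  -- the two classes are central in the radical
  have hcentR : ∀ {q : ℕ} {z : G}, q.Prime → orderOf z = q → cc z = b →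
      (∀ i : ℕ, q ^ i ∣ Nat.card G → q ^ i ∣ cc z) →
      (∀ g : G, R ≤ C[g * z * g⁻¹]) ∧ ∀ x : G, (∀ g : G, x * (g * z * g⁻¹) = g * z * g⁻¹ * x) → x ∈ R := by
    intro q z hq hz hzb hfull
    haveI : Fact q.Prime := ⟨hq⟩
    have hzR := hbR z hzb
    have h0 : R ≤ C[z] := by
      have e0 : R ⊓ C[z] = R := by
        refine eq_of_le_of_card_ge inf_le_left (Nat.le_of_dvd Nat.card_pos
          ((Nat.dvd_iff_prime_pow_dvd_dvd _ _).2 fun p k hp hk => ?_))
        haveI : Fact p.Prime := ⟨hp⟩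
        obtain ⟨S⟩ : Nonempty (Sylow p R) := inferInstance
        refine (Sylow.pow_dvd_card_of_pow_dvd_card S hk).trans ?_
        rw [← card_map_of_injective R.subtype_injective]
        refine card_dvd_of_le ?_
        rintro _ ⟨⟨g, hgR⟩, hg, rfl⟩
        refine mem_inf.2 ⟨hgR, ?_⟩
        rcases eq_or_ne p q with rfl | hpq
        · obtain ⟨Q⟩ : Nonempty (Sylow p C[z]) := inferInstance
          have hidx : ¬ p ∣ ((Q : Subgroup C[z]).map (C[z]).subtype).index := by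
            rw [index_map_subtype]
            exact hp.not_dvd_mul Q.not_dvd_index (not_dvd_index_of_full hp hfull)
          haveI : (S : Subgroup R).Normal := inferInstance
          haveI := Sylow.characteristic_of_normal S inferInstance
          haveI : ((S : Subgroup R).map R.subtype).Normal := ConjAct.normal_of_characteristic_of_normal
          have h1 := (CfsgLib.Coprime.le_pCore (S.2.map R.subtype)).trans
            (CfsgLib.Coprime.pCore_le_sylow ((Q.2.map _).toSylow hidx))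
            (mem_map_of_mem R.subtype hg)
          rw [IsPGroup.toSylow_coe] at h1
          exact map_subtype_le _ h1
        · obtain ⟨j, hj⟩ := IsPGroup.iff_orderOf.1 S.2 ⟨⟨g, hgR⟩, hg⟩
          rw [Subgroup.orderOf_mk] at hj
          have hc' := CfsgLib.CFun.commute_of_coprime_order (x := (⟨g, hgR⟩ : R)) (y := ⟨z, hzR⟩)
            (by
              rw [hj, Subgroup.orderOf_mk, hz]
              exact Nat.Coprime.pow_left j ((Nat.coprime_primes hp hq).2 hpq))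
          exact mem_C.2 (congrArg Subtype.val hc'.eq)
      exact e0 ▸ inf_le_right
    have h1 : ∀ g : G, R ≤ C[g * z * g⁻¹] := fun g x hx => (mem_C_conj g z x).2 (h0 (by
      have := hRn.conj_mem x hx g⁻¹
      rwa [inv_inv] at this))
    refine ⟨h1, fun x hx => ?_⟩
    obtain ⟨K, hK⟩ : ∃ K : Subgroup G, K = ⨅ g : G, C[g * z * g⁻¹] := ⟨_, rfl⟩
    have hKmem : ∀ v : G, v ∈ K ↔ ∀ g : G, v * (g * z * g⁻¹) = g * z * g⁻¹ * v := fun v => by
      simp only [hK, mem_iInf, mem_C]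
    haveI : K.Normal := ⟨fun v hv d => (hKmem _).2 fun g => by
      have := (hKmem v).1 hv (d⁻¹ * g)
      calc d * v * d⁻¹ * (g * z * g⁻¹) = d * (v * ((d⁻¹ * g) * z * (d⁻¹ * g)⁻¹)) * d⁻¹ := by group
        _ = _ := by rw [this]; group⟩
    refine (hnil K inferInstance fun v hv => ?_).2 ((hKmem x).2 hx)
    have hv1 : v * z = z * v := by
      have := (hKmem v).1 hv 1
      rwa [one_mul, inv_one, mul_one] at this
    exact order_dvd_b_of_commute hZ h hns (ne_one_b hZ h hzb) (hzb ▸ ne_bc hZ h) hv1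
  obtain ⟨hR₁, hC₁⟩ := hcentR hq₁ hz₁ hz₁b hfull₁
  obtain ⟨hR₂, hC₂⟩ := hcentR hq₂ hz₂ hz₂b hfull₂
  -- products from the two classes
  have hprod : ∀ g : G, C[z₁] ≠ C[g * z₂ * g⁻¹] →
      Nat.card (C[z₁] ⊓ C[g * z₂ * g⁻¹] : Subgroup G) = a := by
    intro g hne
    have hmR : g * z₂ * g⁻¹ ∈ R := hbR _ ((cc_conj g z₂).trans hz₂b)
    have hcomm : z₁ * (g * z₂ * g⁻¹) = g * z₂ * g⁻¹ * z₁ := mem_C.1 (hR₂ g (hbR z₁ hz₁b))
    have hco' : (orderOf z₁).Coprime (orderOf (g * z₂ * g⁻¹)) := by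
      rw [CfsgLib.CIT.orderOf_conj_eq, hz₁, hz₂]; exact (Nat.coprime_primes hq₁ hq₂).2 hq12
    have hC := CfsgLib.ThreeSizes.cent_mul hcomm hco'
    rcases h.vals _ (mul_ne_one_of_coprime (ne_one_b hZ h hz₁b) hco') with e0 | e0 | e0
    · rw [← hC]; exact e0
    · refine absurd ?_ hne
      rw [← eq_of_le_of_cc (hC ▸ inf_le_left) (e0.trans hz₁b.symm),
        ← eq_of_le_of_cc (hC ▸ inf_le_right : C[z₁ * (g * z₂ * g⁻¹)] ≤ C[g * z₂ * g⁻¹])
          (e0.trans ((cc_conj g z₂).trans hz₂b).symm)]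
    · exact absurd e0 (hRc _ (mul_mem (hbR z₁ hz₁b) hmR))
  -- some conjugate of the second element has the centralizer of the first
  obtain ⟨g₀, hg₀⟩ : ∃ g : G, C[g * z₂ * g⁻¹] = C[z₁] := by
    by_contra hno
    push Not at hno
    let X := {x : G // IsConj z₂ x}
    letI act : MulAction C[z₁] X :=
      { smul := fun g x => ⟨(g : G) * x.1 * (g : G)⁻¹, x.2.trans (isConj_iff.2 ⟨g, rfl⟩)⟩
        one_smul := fun x => Subtype.ext (by
          show ((1 : C[z₁]) : G) * x.1 * ((1 : C[z₁]) : G)⁻¹ = x.1; simp)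
        mul_smul := fun g g' x => Subtype.ext (by
          show ((g * g' : C[z₁]) : G) * x.1 * ((g * g' : C[z₁]) : G)⁻¹ =
            (g : G) * ((g' : G) * x.1 * (g' : G)⁻¹) * (g : G)⁻¹
          simp [mul_assoc]) }
    have hstab : ∀ x : X, Nat.card (MulAction.stabilizer C[z₁] x) = a := by
      rintro ⟨x, hx⟩
      obtain ⟨g, rfl⟩ := isConj_iff.1 hx
      rw [← hprod g (fun e0 => hno g e0.symm),
        ← Nat.card_congr (subgroupOfEquivOfLe (inf_le_left : C[z₁] ⊓ C[g * z₂ * g⁻¹] ≤ C[z₁])).toEquiv]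
      refine congrArg (fun H : Subgroup C[z₁] => Nat.card H) ?_
      ext u
      rw [MulAction.mem_stabilizer_iff, mem_subgroupOf, mem_inf, mem_C (g := (u : G)) (x := g * z₂ * g⁻¹)]
      refine ⟨fun hu => ⟨u.2, ?_⟩, fun hu => Subtype.ext ?_⟩
      · exact mul_inv_eq_iff_eq_mul.1 (congrArg Subtype.val hu)
      · exact mul_inv_eq_iff_eq_mul.2 hu.2
    obtain ⟨k, hk⟩ := h.dvd
    have hk1 : k ≠ 1 := fun e0 => h.lt.ne (by rw [hk, e0, mul_one])
    have horb : ∀ x : X, Nat.card (MulAction.orbit C[z₁] x) = k := by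
      intro x
      rw [Nat.card_coe_set_eq, ← MulAction.index_stabilizer]
      have h1 := card_mul_index (MulAction.stabilizer C[z₁] x)
      rw [hstab x, show Nat.card C[z₁] = b from hz₁b, hk] at h1
      exact Nat.eq_of_mul_eq_mul_left (hstab x ▸ Nat.card_pos) h1
    have hXc : Nat.card X = c := (CfsgLib.Char.card_isConj z₂).trans (index_b hZ h hns hz₂b)
    haveI : Fintype (Quotient (MulAction.orbitRel C[z₁] X)) := Fintype.ofFinite _
    have hkc : k ∣ c := by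
      rw [← hXc, Nat.card_congr (MulAction.selfEquivSigmaOrbits C[z₁] X), Nat.card_sigma]
      exact Finset.dvd_sum fun i _ => (horb i.out).symm ▸ dvd_rfl
    exact hk1 (Nat.eq_one_of_dvd_coprimes hco (hk ▸ dvd_mul_left k a) hkc)
  obtain ⟨z', hz'⟩ : ∃ z' : G, z' = g₀ * z₂ * g₀⁻¹ := ⟨_, rfl⟩
  rw [← hz'] at hg₀
  -- intersections of conjugate centralizers
  have hmeet : ∀ g : G, C[g * z₁ * g⁻¹] ≠ C[z₁] →
      C[z₁] ⊓ C[g * z₁ * g⁻¹] = R ∧ Nat.card R = a := by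
    intro g hne
    have he : C[g * z₁ * g⁻¹] = C[g * z' * g⁻¹] := C_conj_congr g hg₀.symm
    obtain ⟨D, hD⟩ : ∃ D : Subgroup G, D = C[z₁] ⊓ C[g * z₁ * g⁻¹] := ⟨_, rfl⟩
    have hDa : Nat.card D = a := by
      rw [hD, he, hz', show g * (g₀ * z₂ * g₀⁻¹) * g⁻¹ = (g * g₀) * z₂ * (g * g₀)⁻¹ by group]
      refine hprod _ fun e0 => hne ?_
      rw [he, hz', show g * (g₀ * z₂ * g₀⁻¹) * g⁻¹ = (g * g₀) * z₂ * (g * g₀)⁻¹ by group, ← e0]
    have hRD : R ≤ D := by
      have h1 := hR₁ 1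
      rw [one_mul, inv_one, mul_one] at h1
      exact hD ▸ le_inf h1 (hR₁ g)
    have hDR : D ≤ R := by
      have e0 : D ⊓ R = D := by
        refine eq_of_le_of_card_ge inf_le_left (Nat.le_of_dvd Nat.card_pos
          ((Nat.dvd_iff_prime_pow_dvd_dvd _ _).2 fun p k hp hk => ?_))
        haveI : Fact p.Prime := ⟨hp⟩
        obtain ⟨S⟩ : Nonempty (Sylow p D) := inferInstance
        refine (Sylow.pow_dvd_card_of_pow_dvd_card S hk).trans ?_
        rw [← card_map_of_injective D.subtype_injective]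
        refine card_dvd_of_le ?_
        rintro _ ⟨⟨x, hxD⟩, hxS, rfl⟩
        refine mem_inf.2 ⟨hxD, ?_⟩
        by_contra hxR
        have hxR' : x ∉ R := hxR
        obtain ⟨j, hj⟩ := IsPGroup.iff_orderOf.1 S.2 ⟨⟨x, hxD⟩, hxS⟩
        rw [Subgroup.orderOf_mk, Subgroup.orderOf_mk] at hj
        obtain ⟨hxy, hxg⟩ := mem_inf.1 (hD ▸ hxD : x ∈ C[z₁] ⊓ C[g * z₁ * g⁻¹])
        have hx1 : x ≠ 1 := fun e0 => hxR' (e0 ▸ one_mem R)
        have hxa : cc x = a := by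
          rcases typ_ab hZ h hns hx1 (order_dvd_b_of_commute hZ h hns (ne_one_b hZ h hz₁b)
            (hz₁b ▸ ne_bc hZ h) (mem_C.1 hxy)) with e0 | e0
          · exact e0
          · exact absurd (hbR x e0) hxR'
        -- an element of order prime to `p` in each of the two centres
        have hle : C[x] ≤ D := by
          have key : ∀ {q : ℕ} {v : G}, q.Prime → p ≠ q → orderOf v = q → x ∈ C[v] → C[x] ≤ C[v] := by
            intro q v hq hpq hvo hxv u hu
            refine mem_C.2 (central_a hZ h hxa hx1 (mem_C.2 (mem_C.1 hxv).symm) ?_ hu)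
            rw [hj, hvo]
            exact Nat.Coprime.pow_left j ((Nat.coprime_primes hp hq).2 hpq)
          rcases eq_or_ne p q₁ with hpq | hpq
          · rw [hD, ← hg₀, he]
            have hz'o : orderOf z' = q₂ := by rw [hz', CfsgLib.CIT.orderOf_conj_eq, hz₂]
            exact le_inf (key hq₂ (hpq ▸ hq12) hz'o (hg₀ ▸ hxy))
              (key hq₂ (hpq ▸ hq12) (by rw [CfsgLib.CIT.orderOf_conj_eq, hz'o]) (he ▸ hxg))
          · rw [hD]
            exact le_inf (key hq₁ hpq hz₁ hxy)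
              (key hq₁ hpq (by rw [CfsgLib.CIT.orderOf_conj_eq, hz₁]) hxg)
        have heq : C[x] = D := eq_of_le_of_card_ge hle (by
          rw [hDa]; exact hxa.ge)
        exact hxR' (hC₁ x fun d => (mem_C.1 (heq ▸ hRD (hbR _ ((cc_conj d z₁).trans hz₁b)) :
          d * z₁ * d⁻¹ ∈ C[x])).symm)
      exact e0 ▸ inf_le_right
    exact ⟨hD ▸ le_antisymm hDR hRD, (le_antisymm hDR hRD) ▸ hDa⟩
  -- there is a second conjugate
  have hdiff : ∃ g : G, C[g * z₁ * g⁻¹] ≠ C[z₁] := by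
    by_contra hall
    push Not at hall
    have hBR : C[z₁] ≤ R := fun x hx => hC₁ x fun g => mem_C.1 ((hall g).symm ▸ hx)
    have hidx : R.index ∣ c := index_b hZ h hns hz₁b ▸ index_dvd_of_le hBR
    refine hn₀1 (hNR n₀ hn₀ ?_)
    rw [← QuotientGroup.eq_one_iff (N := R), ← orderOf_eq_one_iff]
    exact Nat.eq_one_of_dvd_coprimes hco
      ((orderOf_map_dvd (QuotientGroup.mk' R) n₀).trans (hn₀o ▸ htb))
      ((_root_.orderOf_dvd_natCard _).trans hidx)
  obtain ⟨g₁, hg₁⟩ := hdiff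
  have hRa : Nat.card R = a := (hmeet g₁ hg₁).2
  -- the complement
  have hWz : ∀ u ∈ W, ∀ u' ∈ W, u * z₁ * u⁻¹ = u' * z₁ * u'⁻¹ → u = u' := by
    intro u hu u' hu' heq
    refine inv_mul_eq_one.1 (hWb (u⁻¹ * u') (mul_mem (inv_mem hu) hu') ?_)
    refine order_dvd_b_of_commute hZ h hns (ne_one_b hZ h hz₁b) (hz₁b ▸ ne_bc hZ h) ?_
    calc u⁻¹ * u' * z₁ = u⁻¹ * (u' * z₁ * u'⁻¹) * u' := by group
      _ = u⁻¹ * (u * z₁ * u⁻¹) * u' := by rw [heq]
      _ = _ := by group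
  have horbit : ∀ g : G, ∃ u ∈ W, u * z₁ * u⁻¹ = g * z₁ * g⁻¹ := by
    intro g
    let f : W → {x : G // IsConj z₁ x} := fun u => ⟨(u : G) * z₁ * (u : G)⁻¹, isConj_iff.2 ⟨u, rfl⟩⟩
    have hf : Function.Bijective f := (Nat.bijective_iff_injective_and_card f).2
      ⟨fun u u' e0 => Subtype.ext (hWz u u.2 u' u'.2 (congrArg Subtype.val e0)),
        by rw [hW.card, CfsgLib.Char.card_isConj, index_b hZ h hns hz₁b]⟩
    obtain ⟨u, hu⟩ := hf.2 ⟨_, isConj_iff.2 ⟨g, rfl⟩⟩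
    exact ⟨u, u.2, congrArg Subtype.val hu⟩
  have hC1 : ∀ u ∈ W, ∀ g : G, u * z₁ * u⁻¹ = g * z₁ * g⁻¹ → u⁻¹ * g ∈ C[z₁] := by
    intro u _ g heq
    rw [mem_C]
    calc u⁻¹ * g * z₁ = u⁻¹ * (g * z₁ * g⁻¹) * g := by group
      _ = u⁻¹ * (u * z₁ * u⁻¹) * g := by rw [heq]
      _ = _ := by group
  have hHcard : Nat.card (N ⊓ C[z₁] : Subgroup G) = e := by
    let f : W × (N ⊓ C[z₁] : Subgroup G) → N := fun p => ⟨(p.1 : G) * p.2, mul_mem (hWleN p.1.2) p.2.2.1⟩
    have hf : Function.Bijective f := by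
      refine ⟨fun ⟨⟨u, hu⟩, ⟨n, hn⟩⟩ ⟨⟨u', hu'⟩, ⟨n', hn'⟩⟩ e0 => ?_, fun n => ?_⟩
      · have e1 : u * n = u' * n' := congrArg Subtype.val e0
        have hmem : u'⁻¹ * u ∈ C[z₁] := by
          rw [show u'⁻¹ * u = n' * n⁻¹ by
            rw [eq_mul_inv_iff_mul_eq, mul_assoc, e1]; group]
          exact mul_mem hn'.2 (inv_mem hn.2)
        have hu1 := hWb _ (mul_mem (inv_mem hu') hu) (order_dvd_b_of_commute hZ h hns (ne_one_b hZ h hz₁b)
          (hz₁b ▸ ne_bc hZ h) (mem_C.1 hmem))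
        rw [inv_mul_eq_one] at hu1
        subst hu1
        obtain rfl := mul_left_cancel e1
        rfl
      · obtain ⟨u, hu, hue⟩ := horbit n
        exact ⟨⟨⟨u, hu⟩, ⟨u⁻¹ * n, mem_inf.2 ⟨mul_mem (inv_mem (hWleN hu)) n.2, hC1 u hu n hue⟩⟩⟩,
          Subtype.ext (mul_inv_cancel_left u (n : G))⟩
    have h1 := Nat.card_eq_of_bijective f hf
    rw [Nat.card_prod, hW.card, hNcard] at h1
    exact Nat.eq_of_mul_eq_mul_left hc0 h1
  have hR1le : R ≤ C[z₁] := by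
    have h1 := hR₁ 1
    rwa [one_mul, inv_one, mul_one] at h1
  have hae : a * e ≤ b := by
    rw [← hRa, ← hHcard, ← Nat.card_prod, ← hz₁b]
    refine Nat.card_le_card_of_injective
      (fun p : R × (N ⊓ C[z₁] : Subgroup G) => (⟨(p.1 : G) * p.2, mul_mem (hR1le p.1.2) p.2.2.2⟩ : C[z₁])) ?_
    rintro ⟨⟨r, hr⟩, ⟨n, hn⟩⟩ ⟨⟨r', hr'⟩, ⟨n', hn'⟩⟩ e0
    have e1 : r * n = r' * n' := congrArg Subtype.val e0
    have h2 : n' * n⁻¹ = 1 := hNR _ (mul_mem hn'.1 (inv_mem hn.1)) (by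
      rw [show n' * n⁻¹ = r'⁻¹ * r by
        rw [mul_inv_eq_iff_eq_mul, mul_assoc, e1]; group]
      exact mul_mem (inv_mem hr') hr)
    rw [mul_inv_eq_one] at h2
    subst h2
    obtain rfl := mul_right_cancel e1
    rfl
  -- only one point is fixed
  have huniq : ∀ g : G, C[g * z₁ * g⁻¹] = C[z₁] → g * z₁ * g⁻¹ = z₁ := by
    intro g heq
    obtain ⟨u, hu, hue⟩ := horbit g
    rcases eq_or_ne u 1 with rfl | hu1
    · rw [← hue]; group
    exfalso
    obtain ⟨⟨n, hn⟩, hn1⟩ : ∃ n : (N ⊓ C[z₁] : Subgroup G), n ≠ 1 := by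
      haveI : Nontrivial (N ⊓ C[z₁] : Subgroup G) := Finite.one_lt_card_iff_nontrivial.1 (by rw [hHcard]; exact he1)
      exact exists_ne 1
    have hconj : u * n * u⁻¹ ∈ C[z₁] := by
      rw [← heq, ← hue, mem_C_conj, show u⁻¹ * (u * n * u⁻¹) * u = n by group]
      exact hn.2
    have h1 : u * n * u⁻¹ * n⁻¹ = 1 := hWb _ (by
        rw [show u * n * u⁻¹ * n⁻¹ = u * (n * u⁻¹ * n⁻¹) by group]
        exact mul_mem hu (hNW n hn.1 _ (inv_mem hu)))
      (order_dvd_b_of_commute hZ h hns (ne_one_b hZ h hz₁b) (hz₁b ▸ ne_bc hZ h)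
        (mem_C.1 (mul_mem hconj (inv_mem hn.2))))
    have hnW : n ∈ W := hW.cent u hu hu1 ▸ mem_C.2 (commutatorElement_eq_one_iff_mul_comm.1 h1).symm
    exact hn1 (Subtype.ext (hWb n hnW (order_dvd_b_of_commute hZ h hns (ne_one_b hZ h hz₁b)
      (hz₁b ▸ ne_bc hZ h) (mem_C.1 hn.2))))
  -- counting
  let X := {x : G // IsConj z₁ x}
  have hXcc : ∀ x : X, cc x.1 = b := fun x => by
    obtain ⟨g, hg⟩ := isConj_iff.1 x.2
    rw [← hg, cc_conj, hz₁b]
  have hXR : ∀ x : X, R ≤ C[x.1] := fun x => by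
    obtain ⟨g, hg⟩ := isConj_iff.1 x.2
    exact hg ▸ hR₁ g
  have hXb : ∀ (x : X) (v : G), v ∈ C[x.1] → orderOf v ∣ b := fun x v hv =>
    hXcc x ▸ orderOf_dvd_cc hv
  let S := {p : X × G // p.2 ∈ C[p.1.1] ∧ p.2 ∉ R}
  let T := {p : (G ⧸ N) × W // p.2 ≠ 1}
  let F : R ⊕ S ⊕ T → G := fun p => match p with
    | .inl r => r
    | .inr (.inl s) => s.1.2
    | .inr (.inr q) => q.1.1.out * (q.1.2 : G) * q.1.1.out⁻¹
  have hTc : ∀ q : T, cc (q.1.1.out * (q.1.2 : G) * q.1.1.out⁻¹) = c := fun q => by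
    rw [cc_conj]
    exact exists_conj_c hZ h hns hW q.1.2.2 fun e0 => q.2 (Subtype.ext e0)
  have hF : Function.Injective F := by
    have hSW : ∀ (s : S) (q : T), F (.inr (.inl s)) ≠ F (.inr (.inr q)) := by
      intro s q e0
      have h1 : orderOf (F (.inr (.inr q))) ∣ b := e0 ▸ hXb s.1.1 _ s.2.1
      have h2 : orderOf (F (.inr (.inr q))) ∣ c := hTc q ▸ orderOf_dvd_cc (self_mem _)
      exact ne_one_c hZ h (hTc q) (orderOf_eq_one_iff.1 (Nat.eq_one_of_dvd_coprimes hco h1 h2))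
    rintro (r | s | q) (r' | s' | q') e0
    · exact congrArg Sum.inl (Subtype.ext e0)
    · have e1 : (r : G) = s'.1.2 := e0
      exact absurd (e1 ▸ r.2) s'.2.2
    · have e1 : (r : G) = q'.1.1.out * (q'.1.2 : G) * q'.1.1.out⁻¹ := e0
      exact absurd (hTc q') (hRc _ (e1 ▸ r.2))
    · have e1 : (r' : G) = s.1.2 := e0.symm
      exact absurd (e1 ▸ r'.2) s.2.2
    · have e1 : s.1.2 = s'.1.2 := e0
      obtain ⟨⟨⟨x, hx⟩, v⟩, hv, hvR⟩ := s
      obtain ⟨⟨⟨x', hx'⟩, v'⟩, hv', hvR'⟩ := s'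
      obtain rfl : v = v' := e1
      suffices x = x' by subst this; rfl
      obtain ⟨d, rfl⟩ := isConj_iff.1 hx
      obtain ⟨d', rfl⟩ := isConj_iff.1 hx'
      have hm1 : d⁻¹ * v * d ∈ C[z₁] := (mem_C_conj d z₁ v).1 hv
      have hm2 : d⁻¹ * v * d ∈ C[(d⁻¹ * d') * z₁ * (d⁻¹ * d')⁻¹] := by
        rw [mem_C_conj, show (d⁻¹ * d')⁻¹ * (d⁻¹ * v * d) * (d⁻¹ * d') = d'⁻¹ * v * d' by group]
        exact (mem_C_conj d' z₁ v).1 hv'
      by_cases heq : C[(d⁻¹ * d') * z₁ * (d⁻¹ * d')⁻¹] = C[z₁]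
      · have h3 := huniq _ heq
        calc d * z₁ * d⁻¹ = d * ((d⁻¹ * d') * z₁ * (d⁻¹ * d')⁻¹) * d⁻¹ := by rw [h3]
          _ = _ := by group
      · exfalso
        have h3 : d⁻¹ * v * d ∈ R := (hmeet _ heq).1 ▸ mem_inf.2 ⟨hm1, hm2⟩
        have h4 := hRn.conj_mem _ h3 d
        rw [show d * (d⁻¹ * v * d) * d⁻¹ = v by group] at h4
        exact hvR h4
    · exact absurd e0 (hSW s q')
    · have e1 : (r' : G) = q.1.1.out * (q.1.2 : G) * q.1.1.out⁻¹ := e0.symm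
      exact absurd (hTc q) (hRc _ (e1 ▸ r'.2))
    · exact absurd e0.symm (hSW s' q)
    · obtain ⟨⟨A, u⟩, hu⟩ := q
      obtain ⟨⟨A', u'⟩, hu'⟩ := q'
      have e1 : A.out * (u : G) * A.out⁻¹ = A'.out * (u' : G) * A'.out⁻¹ := e0
      have hu0 : (u : G) ≠ 1 := fun e2 => hu (Subtype.ext e2)
      have hu0' : (u' : G) ≠ 1 := fun e2 => hu' (Subtype.ext e2)
      have e2 : (A'.out⁻¹ * A.out) * (u : G) * (A'.out⁻¹ * A.out)⁻¹ = u' := by
        calc _ = A'.out⁻¹ * (A.out * (u : G) * A.out⁻¹) * A'.out := by group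
          _ = _ := by rw [e1]; group
      have hnm : A'.out⁻¹ * A.out ∈ N := by
        refine hNdef.ge (mem_normalizer_iff.2 fun v => ?_)
        have hc1 := hW.cent _ u.2 hu0
        have hc2 := hW.cent _ u'.2 hu0'
        conv_lhs => rw [← hc1]
        conv_rhs => rw [← hc2, ← e2, mem_C_conj]
        rw [show (A'.out⁻¹ * A.out)⁻¹ * (A'.out⁻¹ * A.out * v * (A'.out⁻¹ * A.out)⁻¹) *
          (A'.out⁻¹ * A.out) = v by group]
      have hA : A = A' := by
        have := QuotientGroup.eq.2 hnm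
        rw [QuotientGroup.out_eq', QuotientGroup.out_eq'] at this
        exact this.symm
      subst hA
      obtain rfl : u = u' := Subtype.ext (mul_left_cancel (mul_right_cancel e1))
      rfl
  have hcount := Nat.card_le_card_of_injective F hF
  haveI : Fintype X := Fintype.ofFinite _
  have hS : Nat.card S = c * (b - a) := by
    have e0 : S ≃ Σ x : X, {v : G // v ∈ C[x.1] ∧ v ∉ R} :=
      { toFun := fun p => ⟨p.1.1, p.1.2, p.2⟩
        invFun := fun p => ⟨(p.1, p.2.1), p.2.2⟩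
        left_inv := fun p => rfl
        right_inv := fun p => rfl }
    rw [Nat.card_congr e0, Nat.card_sigma, Finset.sum_congr rfl fun x _ => (?_ : Nat.card _ = b - a),
      Finset.sum_const, Finset.card_univ, ← Nat.card_eq_fintype_card, smul_eq_mul,
      CfsgLib.Char.card_isConj, index_b hZ h hns hz₁b]
    have h1 : Nat.card {v : G // v ∈ C[x.1] ∧ v ∉ R} = Set.ncard ((C[x.1] : Set G) \ (R : Set G)) :=
      Nat.card_coe_set_eq _
    rw [h1, Set.ncard_diff (fun v hv => hXR x hv) (Set.toFinite _)]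
    exact congrArg₂ (· - ·) ((Nat.card_coe_set_eq _).symm.trans (hXcc x)) ((Nat.card_coe_set_eq _).symm.trans hRa)
  have hT : Nat.card T = N.index * (c - 1) := by
    have e0 : T ≃ (G ⧸ N) × {u : W // u ≠ 1} :=
      { toFun := fun p => (p.1.1, ⟨p.1.2, p.2⟩)
        invFun := fun p => ⟨(p.1, p.2.1), p.2.2⟩
        left_inv := fun p => rfl
        right_inv := fun p => rfl }
    rw [Nat.card_congr e0, Nat.card_prod]
    congr 1
    haveI : Fintype W := Fintype.ofFinite _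
    rw [← hW.card, Nat.card_eq_fintype_card, Nat.card_eq_fintype_card, Fintype.card_subtype_compl,
      Fintype.card_subtype_eq]
  rw [Nat.card_sum, Nat.card_sum, hRa, hS, hT, ← hbc] at hcount
  have hia : N.index ≤ a := by
    obtain ⟨c', rfl⟩ : ∃ c', c = c' + 1 := ⟨c - 1, by omega⟩
    have h1 : N.index * c' ≤ a * c' := by
      obtain ⟨d, rfl⟩ : ∃ d, b = a + d := ⟨b - a, by have := h.lt; omega⟩
      rw [Nat.add_sub_cancel_left, Nat.add_sub_cancel] at hcount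
      nlinarith
    exact Nat.le_of_mul_le_mul_right h1 (by omega)
  have hbeq : b = a * e := le_antisymm (hNi ▸ Nat.mul_le_mul_right e hia) hae
  -- the radical and the normalizer cover the group
  have htop : R ⊔ N = ⊤ := by
    refine eq_top_of_le_card _ (?_)
    rw [← hbc, hbeq, show a * e * c = Nat.card R * Nat.card N by rw [hRa, hNcard]; ring, ← Nat.card_prod]
    refine Nat.card_le_card_of_injective
      (fun p : R × N => (⟨(p.1 : G) * p.2, mul_mem (mem_sup_left p.1.2) (mem_sup_right p.2.2)⟩ : (R ⊔ N : Subgroup G))) ?_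
    rintro ⟨⟨r, hr⟩, ⟨n, hn⟩⟩ ⟨⟨r', hr'⟩, ⟨n', hn'⟩⟩ e0
    have e1 : r * n = r' * n' := congrArg Subtype.val e0
    have h2 : n' * n⁻¹ = 1 := hNR _ (mul_mem hn' (inv_mem hn)) (by
      rw [show n' * n⁻¹ = r'⁻¹ * r by
        rw [mul_inv_eq_iff_eq_mul, mul_assoc, e1]; group]
      exact mul_mem (inv_mem hr') hr)
    rw [mul_inv_eq_one] at h2
    subst h2
    obtain rfl := mul_right_cancel e1
    rfl
  obtain ⟨M, hM⟩ : ∃ M : Subgroup G, M = R ⊔ W := ⟨_, rfl⟩
  haveI : M.Normal := normalizer_eq_top_iff.1 (top_le_iff.1 (htop ▸ sup_le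
    (le_trans (hM ▸ le_sup_left : R ≤ M) le_normalizer) fun n hn => by
      have key : ∀ d ∈ N, ∀ x ∈ M, d * x * d⁻¹ ∈ M := by
        intro d hd x hx
        obtain ⟨r, hr, u, hu, rfl⟩ := mem_sup_of_normal_left.1 (hM ▸ hx)
        rw [show d * (r * u) * d⁻¹ = (d * r * d⁻¹) * (d * u * d⁻¹) by group, hM]
        exact mul_mem (mem_sup_left (hRn.conj_mem r hr d)) (mem_sup_right (hNW d hd u hu))
      refine mem_normalizer_iff.2 fun x => ⟨key n hn x, fun hx => ?_⟩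
      have := key n⁻¹ (inv_mem hn) _ hx
      rwa [inv_inv, show n⁻¹ * (n * x * n⁻¹) * n = x by group] at this))
  refine hw1 (hWR w hwW (hR M inferInstance ?_ (hM ▸ mem_sup_right hwW)))
  rw [hM]
  exact CfsgLib.FrobSystem.isSolvable_sup hRs (Group.isSolvable_of_comm fun p q =>
    Subtype.ext (hW.comm p p.2 q q.2))

end CfsgLib.CIT.ThreeGen
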