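import Cfsg.Agent.Lib.CIT.ThreeGen.Basic
import Cfsg.Agent.Lib.Coprime.FpfAction
import Cfsg.Agent.Lib.Coprime.Solvable
import Cfsg.Agent.S4146
import Cfsg.Agent.S4160
import Cfsg.Agent.S0144

/-!
# Commuting elements of the two maximal kinds
-/

set_option autoImplicit false
set_option linter.unusedSectionVars false
set_option linter.style.haveILetI false

namespace CfsgLib.CIT.ThreeGen

open Subgroup
open scoped commutatorElement
open CfsgLib.CIT.ThreeSizes (cc Chain mem_C self_mem C_le_pow mem_of_commute_mul mul_ne_one_of_coprime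
  cc_le eq_of_le_of_cc orderOf_dvd_cc exists_prime_pow exists_full)

universe u

variable {G : Type u} [Group G] [Finite G]

local notation "C[" x "]" => centralizer ({x} : Set G)

variable (hZ : center G = ⊥) {a b c : ℕ} (h : Chain G a b c) (hns : ¬ Group.IsSolvable G)

include hZ h hns

/-- Commuting elements of prime order of the two kinds have the same order. -/
theorem samePrime : SamePrime G b c := by
  intro y w r s hy hw hr hs hyo hwo hyw
  by_contra hrs
  have hco : (orderOf y).Coprime (orderOf w) := by rw [hyo, hwo]; exact (Nat.coprime_primes hr hs).2 hrs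
  have hC : C[y * w] = C[y] ⊓ C[w] := CfsgLib.ThreeSizes.cent_mul hyw hco
  have hne := mul_ne_one_of_coprime (ne_one_b hZ h hy) hco
  rcases h.vals _ hne with e | e | e
  · have hcop := coprime_index hZ h hy hw
    have hlt : ∀ {v : G}, v ≠ 1 → 1 < (C[v]).index := fun {v} hv => by
      have h0 : (C[v]).index ≠ 0 := index_ne_zero_of_finite
      have h1 : (C[v]).index ≠ 1 := fun e => C_ne_top hZ hv (index_eq_one.1 e)
      omega
    have hM : (C[y * w]).index = (C[w]).index * (C[y]).index := by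
      rw [hC, CfsgLib.ClassGraph.index_inf_of_coprime hcop, mul_comm]
    refine hns ?_
    haveI := (Cfsg.Agent.S4146.result (G := G) (C[w]).index (C[y]).index (hlt (ne_one_c hZ h hw))
      (hlt (ne_one_b hZ h hy)) hcop.symm ?_).1
    · infer_instance
    ext v
    simp only [Set.mem_range, Set.mem_insert_iff, Set.mem_singleton_iff]
    constructor
    · rintro ⟨x, rfl⟩
      rcases eq_or_ne x 1 with rfl | hx
      · exact Or.inl (index_eq_one.2 (eq_top_iff.2 fun g _ => mem_C.2 (by rw [mul_one, one_mul])))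
      rcases h.vals x hx with e' | e' | e'
      · exact Or.inr (Or.inr (Or.inr ((index_eq_of_cc (e'.trans e.symm)).trans hM)))
      · exact Or.inr (Or.inr (Or.inl (index_eq_of_cc (e'.trans hy.symm))))
      · exact Or.inr (Or.inl (index_eq_of_cc (e'.trans hw.symm)))
    · rintro (rfl | rfl | rfl | rfl)
      · exact ⟨1, index_eq_one.2 (eq_top_iff.2 fun g _ => mem_C.2 (by rw [mul_one, one_mul]))⟩
      · exact ⟨w, rfl⟩
      · exact ⟨y, rfl⟩
      · exact ⟨y * w, hM⟩
  · have he : C[y * w] = C[y] := eq_of_le_of_cc (hC ▸ inf_le_left) (e.trans hy.symm)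
    have := max_b hZ h hy (ne_one_c hZ h hw) (he ▸ hC ▸ inf_le_right)
    exact ne_bc hZ h (by rw [← hy, ← hw, cc, cc, this])
  · have he : C[y * w] = C[w] := eq_of_le_of_cc (hC ▸ inf_le_right) (e.trans hw.symm)
    have := max_c hZ h hw (ne_one_b hZ h hy) (he ▸ hC ▸ inf_le_left)
    exact ne_bc hZ h (by rw [← hy, ← hw, cc, cc, this])

/-- The meet of a commuting pair has no element of another prime order. -/
theorem meet_isPGroup {y w : G} {r q : ℕ} (hy : cc y = b) (hw : cc w = c) (hr : r.Prime) (hq : q.Prime)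
    (hyo : orderOf y = r) (hwo : orderOf w = r) (hqD : q ∣ Nat.card (C[y] ⊓ C[w] : Subgroup G))
    (hyw : y * w = w * y) : q = r := by
  by_contra hqr
  have hsp := samePrime hZ h hns
  obtain ⟨D, hDdef⟩ : ∃ D : Subgroup G, D = C[y] ⊓ C[w] := ⟨_, rfl⟩
  rw [← hDdef] at hqD
  have hdG := card_inter hZ h hy hw
  rw [← hDdef] at hdG
  haveI : Fact q.Prime := ⟨hq⟩
  obtain ⟨⟨u, hu⟩, huo⟩ := exists_prime_orderOf_dvd_card' (G := D) q hqD
  rw [Subgroup.orderOf_mk] at huo
  have hu1 : u ≠ 1 := fun e => hq.ne_one (by rw [← huo, e, orderOf_one])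
  obtain ⟨huy, huw⟩ := mem_inf.1 (hDdef ▸ hu)
  have hua : cc u = a := by
    rcases h.vals u hu1 with e | e | e
    · exact e
    · exact absurd (hsp u w q r e hw hq hr huo hwo (mem_C.1 huw)) hqr
    · exact absurd (hsp y u r q hy e hr hq hyo huo (mem_C.1 huy).symm).symm hqr
  have haD : a ∣ Nat.card D := by
    rw [← hua]
    refine card_dvd_of_le ?_
    rw [hDdef]
    have hyu : y ∈ C[u] := mem_C.2 (mem_C.1 huy).symm
    have hwu : w ∈ C[u] := mem_C.2 (mem_C.1 huw).symm
    exact le_inf (fun g hg => mem_C.2 (central_a hZ h hua hu1 hyu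
        (by rw [huo, hyo]; exact (Nat.coprime_primes hq hr).2 hqr) hg))
      (fun g hg => mem_C.2 (central_a hZ h hua hu1 hwu
        (by rw [huo, hwo]; exact (Nat.coprime_primes hq hr).2 hqr) hg))
  have han : a * (C[w]).index ∣ b := by
    have h1 := card_mul_index C[w]
    rw [show Nat.card C[w] = c from hw] at h1
    rw [← h1] at hdG
    obtain ⟨t, ht⟩ := haD
    refine ⟨t, Nat.eq_of_mul_eq_mul_left (show 0 < c from hw ▸ Nat.card_pos) ?_⟩
    rw [mul_comm c b, ← hdG, ht]
    ring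
  -- the two sets of orders
  have hpair : ∀ {y' w' : G} {r₁ r₂ : ℕ}, cc y' = b → cc w' = c → r₁.Prime → r₂.Prime →
      orderOf y' = r₁ → orderOf w' = r₂ → r₁ ≠ r₂ →
      (r = r₁ ∨ r = r₂) ∧ (q = r₁ ∨ q = r₂) := by
    intro y' w' r₁ r₂ hy' hw' h₁ h₂ hyo' hwo' hne
    have key : ∀ p : ℕ, p.Prime → p ∣ Nat.card D → p = r₁ ∨ p = r₂ := by
      intro p hp hpD
      haveI : Fact p.Prime := ⟨hp⟩
      have hcard : Nat.card (C[y'] ⊓ C[w'] : Subgroup G) = Nat.card D :=
        Nat.eq_of_mul_eq_mul_right Nat.card_pos ((card_inter hZ h hy' hw').trans hdG.symm)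
      obtain ⟨⟨v, hv⟩, hvo⟩ := exists_prime_orderOf_dvd_card' (G := (C[y'] ⊓ C[w'] : Subgroup G)) p
        (by rw [hcard]; exact hpD)
      rw [Subgroup.orderOf_mk] at hvo
      rcases meet_prime hZ h hsp hy' hw' h₁ h₂ hp hyo' hwo' hvo hne (mem_inf.1 hv).1 (mem_inf.1 hv).2
        with ⟨-, e⟩ | ⟨-, e⟩
      · exact Or.inr e
      · exact Or.inl e
    refine ⟨key r hr ?_, key q hq hqD⟩
    rw [← hyo]
    exact orderOf_dvd_natCard _ (hDdef ▸ ⟨self_mem y, mem_C.2 hyw⟩ : y ∈ D)
  have hbset : ∀ {v : G} {p : ℕ}, p.Prime → cc v = b → orderOf v = p → p = r ∨ p = q := by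
    intro v p hp hv hvo
    by_contra hne
    push Not at hne
    rcases (hpair hv hw hp hr hvo hwo hne.1).2 with e | e
    · exact hne.2 e.symm
    · exact hqr e
  have hcset : ∀ {v : G} {p : ℕ}, p.Prime → cc v = c → orderOf v = p → p = r ∨ p = q := by
    intro v p hp hv hvo
    by_contra hne
    push Not at hne
    rcases (hpair hy hv hr hp hyo hvo hne.1.symm).2 with e | e
    · exact hqr e
    · exact hne.2 e.symm
  refine hns ?_
  have hsupp : ∀ p : ℕ, p.Prime → p ∣ Nat.card G → p = r ∨ p = q := by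
    intro p hp hpG
    by_contra hne
    haveI : Fact p.Prime := ⟨hp⟩
    obtain ⟨z, hz, hfull⟩ := exists_full p hp hpG
    have hz1 : z ≠ 1 := fun e => hp.ne_one (by rw [← hz, e, orderOf_one])
    have hfz := not_dvd_index_of_full hp hfull
    have hza : cc z = a := by
      rcases h.vals z hz1 with e | e | e
      · exact e
      · exact absurd (hbset hp e hz) hne
      · exact absurd (hcset hp e hz) hne
    -- no class size is divisible by `p`
    have hall : ∀ x : G, ¬ p ∣ (C[x]).index := by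
      intro x
      rcases eq_or_ne x 1 with rfl | hx
      · rw [index_eq_one.2 (eq_top_iff.2 fun g _ => mem_C.2 (by rw [mul_one, one_mul]))]
        exact fun e => hp.ne_one (Nat.dvd_one.1 e)
      rcases h.vals x hx with e | e | e
      · rw [index_eq_of_cc (e.trans hza.symm)]; exact hfz
      · refine not_dvd_index_of_full hp fun k hk => ?_
        rw [e]
        exact (hza ▸ hfull k hk).trans h.dvd
      · intro hd
        obtain ⟨i, m', hm', hbm⟩ := Nat.exists_eq_pow_mul_and_not_dvd (n := a)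
          (hua ▸ Nat.card_pos.ne') p hp.ne_one
        obtain ⟨n', hn'⟩ := hd
        have h1 : a * (C[x]).index ∣ Nat.card G := by
          rw [index_eq_of_cc (e.trans hw.symm)]
          refine han.trans ?_
          rw [← hy]
          exact card_subgroup_dvd_card _
        have h2 : p ^ (i + 1) ∣ a := hza ▸ hfull (i + 1)
          (Dvd.dvd.trans ⟨m' * n', by rw [hbm, hn', pow_succ]; ring⟩ h1)
        rw [hbm, pow_succ] at h2
        exact hm' ((Nat.mul_dvd_mul_iff_left (pow_pos hp.pos i)).1 h2)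
    obtain ⟨P⟩ : Nonempty (Sylow p G) := inferInstance
    haveI : Nontrivial (P : Subgroup G) :=
      (Subgroup.nontrivial_iff_ne_bot _).2 (P.ne_bot_of_dvd_card hpG)
    haveI := P.2.center_nontrivial
    obtain ⟨z₀, hz₀⟩ := exists_ne (1 : center (P : Subgroup G))
    refine hz₀ (Subtype.ext (Subtype.ext ?_))
    have hmem : ((z₀ : (P : Subgroup G)) : G) ∈ center G := by
      have htop := CfsgLib.PGroup.eq_top_of_forall_conj_mem
        (centralizer ({((z₀ : (P : Subgroup G)) : G)} : Set G)) fun x => by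
          obtain ⟨g, hg⟩ := CfsgLib.ClassGraph.exists_conj_centralizes P (hall x)
          exact ⟨g, mem_C.2 (mem_centralizer_iff.1 hg _ (z₀ : (P : Subgroup G)).2).symm⟩
      exact mem_center_iff.2 fun g => mem_C.1 (htop ▸ mem_top g)
    rw [hZ, mem_bot] at hmem
    exact hmem
  obtain ⟨i, t, ht, hcard⟩ := Nat.exists_eq_pow_mul_and_not_dvd (n := Nat.card G) Nat.card_pos.ne' r hr.ne_one
  have ht0 : t ≠ 0 := fun e => ht (e ▸ dvd_zero r)
  have htq := Nat.eq_prime_pow_of_unique_prime_dvd ht0 fun {p} hp hd =>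
    (hsupp p hp (hd.trans (by rw [hcard]; exact dvd_mul_left _ _))).resolve_left fun e => ht (e ▸ hd)
  exact Cfsg.Agent.S0144.result r q i _ hr hq (hcard.trans (by rw [← htq]))

/-- The second kind has centralizers of prime power order. -/
theorem r_center {y w : G} {r : ℕ} (hy : cc y = b) (hw : cc w = c) (hr : r.Prime) (hyo : orderOf y = r)
    (hyw : y * w = w * y) (hm : ∀ t : ℕ, t.Prime → t ∣ (C[y]).index → t = r)
    (hc : ∀ t : ℕ, t.Prime → t ∣ c → t = r) : False := by
  classical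
  haveI : Fact r.Prime := ⟨hr⟩
  have hc0 : c ≠ 0 := hw ▸ Nat.card_pos.ne'
  have hcG : ∀ t : ℕ, t.Prime → t ≠ r → t ∣ c → False := fun t ht hne hd => hne (hc t ht hd)
  have hrn : ¬ r ∣ (C[w]).index := by
    intro hd
    have hm1 : (C[y]).index ≠ 1 := fun e => C_ne_top hZ (ne_one_b hZ h hy) (index_eq_one.1 e)
    obtain ⟨t, ht, htd⟩ := Nat.exists_prime_and_dvd hm1
    rw [hm t ht htd] at htd
    exact hr.ne_one (Nat.dvd_one.1 (coprime_index hZ h hy hw ▸ Nat.dvd_gcd htd hd))
  have hWp : IsPGroup r C[w] := IsPGroup.of_card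
    (n := c.primeFactorsList.length) (hw.trans (Nat.eq_prime_pow_of_unique_prime_dvd hc0 fun {t} ht hd => hc t ht hd))
  let P : Sylow r G := hWp.toSylow hrn
  have hPC : (P : Subgroup G) = C[w] := IsPGroup.toSylow_coe _ hrn
  -- the normal closure of `y` is an `r`-group
  haveI hEn := CfsgLib.Coprime.pCore_normal' (G := G) r
  obtain ⟨E, hEdef⟩ : ∃ E : Subgroup G, E = Cfsg.pCore r G := ⟨_, rfl⟩
  have hEp : IsPGroup r E := hEdef ▸ CfsgLib.Coprime.pCore_isPGroup r
  haveI : E.Normal := hEdef ▸ hEn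
  have hcl : normalClosure ({y} : Set G) ≤ C[w] := by
    refine (closure_le _).2 fun g hg => ?_
    obtain ⟨y', hy', hcj⟩ := Group.mem_conjugatesOfSet_iff.1 hg
    rw [Set.mem_singleton_iff.1 hy'] at hcj
    obtain ⟨d, rfl⟩ := isConj_iff.1 hcj
    obtain ⟨e, he1, he2⟩ := pair_conj hZ h hy hw d 1
    rw [inv_one, mul_one, one_mul] at he2
    rw [← he1]
    refine mem_C.2 ?_
    calc e * y * e⁻¹ * w = e * y * e⁻¹ * (e * w * e⁻¹) := by rw [he2]
      _ = e * (y * w) * e⁻¹ := by group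
      _ = e * (w * y) * e⁻¹ := by rw [hyw]
      _ = (e * w * e⁻¹) * (e * y * e⁻¹) := by group
      _ = _ := by rw [he2]
  have hEne : E ≠ ⊥ := by
    intro e
    have h1 := CfsgLib.Coprime.le_pCore (N := normalClosure ({y} : Set G)) (hWp.to_le hcl)
      (subset_normalClosure (Set.mem_singleton y))
    rw [← hEdef, e, mem_bot] at h1
    exact ne_one_b hZ h hy h1
  obtain ⟨V, hVn, hV1, hVE, hVmin⟩ := CfsgLib.Coprime.exists_minimal_normal_le hEne
  haveI := hVn
  haveI := hEp.isNilpotent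
  haveI : Group.IsSolvable V := Group.isSolvable_of_isSolvable_injective (inclusion_injective hVE)
  obtain ⟨hVab, -⟩ := CfsgLib.Coprime.minimal_normal_solvable hV1 hVmin
  have hVp : IsPGroup r V := hEp.to_le hVE
  have hVP : V ≤ P := (hVE.trans (hEdef ▸ CfsgLib.Coprime.pCore_le_sylow P))
  -- a central element of the Sylow subgroup
  obtain ⟨v₀, hv₀V, hv₀1, hv₀c⟩ : ∃ v₀ ∈ V, v₀ ≠ 1 ∧ cc v₀ = c := by
    haveI := P.2.isNilpotent
    have hne := CfsgLib.Coprime.nilpotent_inf_center_ne_bot (V.subgroupOf (P : Subgroup G))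
      (fun e => hV1 (by rwa [subgroupOf_eq_bot, disjoint_iff, inf_of_le_left hVP] at e))
    obtain ⟨⟨v, hv⟩, hv1⟩ := ne_bot_iff_exists_ne_one.1 hne
    refine ⟨(v : G), mem_subgroupOf.1 (mem_inf.1 hv).1, fun e => hv1 (Subtype.ext (Subtype.ext e)), ?_⟩
    have hd : c ∣ cc (v : G) := by
      rw [← hw, cc, ← hPC]
      exact card_dvd_of_le fun g hg => mem_C.2 (congrArg Subtype.val (mem_center_iff.1 (mem_inf.1 hv).2 ⟨g, hg⟩))
    rcases h.vals (v : G) (fun e => hv1 (Subtype.ext (Subtype.ext e))) with e | e | e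
    · exact absurd ((e ▸ hd).trans h.dvd) (not_dvd hZ h).2
    · exact absurd (e ▸ hd) (not_dvd hZ h).2
    · exact e
  have hVsub : ∀ {u : G}, (∀ v ∈ V, u * v = v * u) → ∃ i : ℕ, orderOf u = r ^ i := by
    intro u hu
    obtain ⟨i, -, hi⟩ := (Nat.dvd_prime_pow hr).1 ((orderOf_dvd_cc (mem_C.2 (hu v₀ hv₀V))).trans
      (dvd_of_eq (hv₀c.trans (Nat.eq_prime_pow_of_unique_prime_dvd hc0 fun {t} ht hd => hc t ht hd))))
    exact ⟨i, hi⟩
  have hnotc : ∀ {u : G} {p : ℕ}, p.Prime → p ≠ r → u ≠ 1 → (∃ i : ℕ, orderOf u = p ^ i) →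
      cc u ≠ c := by
    rintro u p hp hne hu1 ⟨i, hi⟩ e
    have hi0 : i ≠ 0 := fun e' => hu1 (orderOf_eq_one_iff.1 (by rw [hi, e', pow_zero]))
    exact hcG p hp hne ((dvd_pow_self p hi0).trans (hi ▸ e ▸ orderOf_dvd_cc (self_mem u)))
  have hVa : ∀ v ∈ V, v ≠ 1 → cc v ≠ a := by
    intro v hv hv1 hva
    have hap : ∀ p : ℕ, p.Prime → p ∣ a → p = r := by
      intro p hp hd
      by_contra hne
      haveI : Fact p.Prime := ⟨hp⟩
      obtain ⟨⟨u, hu⟩, huo⟩ := exists_prime_orderOf_dvd_card' (G := C[v]) p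
        (by rw [show Nat.card C[v] = a from hva]; exact hd)
      rw [Subgroup.orderOf_mk] at huo
      obtain ⟨j, hj⟩ := IsPGroup.iff_orderOf.1 hVp ⟨v, hv⟩
      rw [Subgroup.orderOf_mk] at hj
      obtain ⟨i, hi⟩ := hVsub (u := u) fun x hx => (central_a hZ h hva hv1 hu
        (by rw [hj, huo]; exact ((Nat.coprime_primes hr hp).2 (Ne.symm hne)).pow_left _)
        (mem_C.2 (hVab x hx v hv))).symm
      rw [huo] at hi
      exact hne ((Nat.prime_dvd_prime_iff_eq hp hr).1 (hp.dvd_of_dvd_pow (dvd_of_eq hi)))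
    refine hns (solvable_of_compl hr fun p hp hpr _ => Or.inr fun u hu1 ⟨i, hi⟩ q hq hd => Or.inl ?_)
    rcases h.vals u hu1 with e | e | e
    · have hi0 : i ≠ 0 := fun e' => hu1 (orderOf_eq_one_iff.1 (by rw [hi, e', pow_zero]))
      exact absurd (hap p hp ((dvd_pow_self p hi0).trans (hi ▸ e ▸ orderOf_dvd_cc (self_mem u)))) hpr
    · rw [index_eq_of_cc (e.trans hy.symm)] at hd
      exact hm q hq hd
    · exact absurd e (hnotc hp hpr hu1 ⟨i, hi⟩)
  have hVc : ∀ v ∈ V, v ≠ 1 → cc v = c := by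
    intro v hv hv1
    rcases h.vals v hv1 with e | e | e
    · exact absurd e (hVa v hv hv1)
    · exfalso
      have hco := coprime_index hZ h e hv₀c
      have hvv : v * v₀ ≠ 1 := fun e' => ne_bc hZ h (by
        rw [← e, ← hv₀c, cc, cc, eq_inv_of_mul_eq_one_left e']
        congr 2
        ext g
        rw [mem_C, mem_C]
        exact Commute.inv_right_iff)
      rcases h.vals _ hvv with e' | e' | e'
      · exact hVa _ (mul_mem hv hv₀V) hvv e'
      · -- all translates of the class stay in it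
        have hcm : v₀ * v = v * v₀ := hVab v₀ hv₀V v hv
        have ht := class_translate (a := v₀) (b := v) hco.symm
          (by rw [hcm]; exact index_eq_of_cc (e'.trans e.symm))
        let S : Subgroup G :=
          { carrier := {s | ∀ x : G, IsConj v x ↔ IsConj v (s * x)}
            one_mem' := fun x => by rw [one_mul]
            mul_mem' := fun {s s'} hs hs' x => by rw [mul_assoc]; exact (hs' x).trans (hs (s' * x))
            inv_mem' := fun {s} hs x => by
              have := hs (s⁻¹ * x)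
              rw [mul_inv_cancel_left] at this
              exact this.symm }
        haveI : S.Normal := ⟨fun s hs g x => by
          have hcj : ∀ x : G, IsConj v x ↔ IsConj v (g⁻¹ * x * g) := fun x =>
            ⟨fun hx => hx.trans (isConj_iff.2 ⟨g⁻¹, by group⟩),
              fun hx => hx.trans (isConj_iff.2 ⟨g, by group⟩)⟩
          rw [hcj x, hcj (g * s * g⁻¹ * x), hs (g⁻¹ * x * g)]
          rw [show g⁻¹ * (g * s * g⁻¹ * x) * g = s * (g⁻¹ * x * g) by group]⟩
        have hS : ∀ g : G, v₀⁻¹ * (g * v₀ * g⁻¹) ∈ S := by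
          intro g
          intro x
          refine ⟨ht g x, fun hx => ?_⟩
          let f : {x : G // IsConj v x} → {x : G // IsConj v x} := fun z => ⟨_, ht g z.1 z.2⟩
          have hf : Function.Surjective f := Finite.injective_iff_surjective.1 fun z z' e0 =>
            Subtype.ext (mul_left_cancel (congrArg Subtype.val e0))
          obtain ⟨⟨z, hz⟩, hzx⟩ := hf ⟨_, hx⟩
          rwa [← mul_left_cancel (congrArg Subtype.val hzx)]
        rcases hVmin (S ⊓ V) inferInstance inf_le_right with e0 | e0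
        · refine C_ne_top hZ hv₀1 (eq_top_iff.2 fun g _ => mem_C.2 ?_)
          have h1 : v₀⁻¹ * (g * v₀ * g⁻¹) ∈ S ⊓ V :=
            mem_inf.2 ⟨hS g, V.mul_mem (V.inv_mem hv₀V) (hVn.conj_mem v₀ hv₀V g)⟩
          rw [e0, mem_bot, inv_mul_eq_one] at h1
          exact (eq_mul_inv_iff_mul_eq.1 h1).symm
        · have h1 : v⁻¹ ∈ S := (inf_eq_right.1 e0) (inv_mem hv)
          have h2 := (h1 v).1 (IsConj.refl v)
          rw [inv_mul_cancel] at h2
          exact hv1 (isConj_one_left.1 h2)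
      · have hd := (CfsgLib.ClassGraph.class_product hco).2.2 (index_eq_of_cc (e'.trans hv₀c.symm))
        refine C_ne_top hZ hv1 (eq_top_iff.2 fun g _ => mem_C.2 ?_)
        have h1 := hd g
        have hm' : v⁻¹ * (g * v * g⁻¹) ∈ V := mul_mem (inv_mem hv) (hVn.conj_mem v hv g)
        obtain ⟨j, hj⟩ := IsPGroup.iff_orderOf.1 hVp ⟨_, hm'⟩
        rw [Subgroup.orderOf_mk] at hj
        have h2 : v⁻¹ * (g * v * g⁻¹) = 1 := orderOf_eq_one_iff.1 (by
          refine Nat.eq_one_of_dvd_coprimes ?_ h1 (dvd_of_eq hj)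
          rw [show CfsgLib.ClassGraph.cidx v₀ = (C[w]).index from index_eq_of_cc (hv₀c.trans hw.symm)]
          exact ((hr.coprime_iff_not_dvd.2 hrn).symm).pow_right j)
        rw [inv_mul_eq_one] at h2
        exact (eq_mul_inv_iff_mul_eq.1 h2).symm
    · exact e
  -- elements of order prime to `r` act fixed point freely
  have hfix : ∀ g : G, ∀ p : ℕ, p.Prime → p ≠ r → orderOf g = p → V ⊓ centralizer {g} = ⊥ := by
    intro g p hp hne hgo
    refine eq_bot_iff.2 fun v hv => mem_bot.2 ?_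
    by_contra hv1
    refine hcG p hp hne (hgo ▸ hVc v (mem_inf.1 hv).1 hv1 ▸ orderOf_dvd_cc (x := v) (g := g) ?_)
    exact mem_C.2 (mem_C.1 (mem_inf.1 hv).2).symm
  -- the radical is not an `r`-group
  obtain ⟨R, hRn, hRs, hR⟩ := exists_rad (G := G)
  haveI := hRn
  obtain ⟨u₀, hu₀R, q, hq, hqr, hu₀1, i₀, hu₀o⟩ : ∃ u₀ ∈ R, ∃ q : ℕ, q.Prime ∧ q ≠ r ∧ u₀ ≠ 1 ∧
      ∃ i : ℕ, orderOf u₀ = q ^ i := by
    by_contra hno
    refine hns (solvable_of_compl hr fun p hp hpr hpG => Or.inr fun u hu1 ⟨i, hi⟩ t ht hd => Or.inl ?_)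
    rcases h.vals u hu1 with e | e | e
    · by_contra htr
      obtain ⟨z, hz, hfull⟩ := exists_full t ht (hd.trans (index_dvd_card _))
      have hz1 : z ≠ 1 := fun e' => ht.ne_one (by rw [← hz, e', orderOf_one])
      rcases h.vals z hz1 with e' | e' | e'
      · rw [index_eq_of_cc (e.trans e'.symm)] at hd
        exact not_dvd_index_of_full ht hfull hd
      · refine hno ⟨z, ?_, t, ht, htr, hz1, 1, by rw [hz, pow_one]⟩
        exact mem_rad_of_class_prime_pow hR hr
          (Nat.eq_prime_pow_of_unique_prime_dvd index_ne_zero_of_finite fun {t'} ht' hd' =>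
            hm t' ht' (by rwa [← index_eq_of_cc (e'.trans hy.symm)]))
      · exact hnotc ht htr hz1 ⟨1, by rw [hz, pow_one]⟩ e'
    · rw [index_eq_of_cc (e.trans hy.symm)] at hd
      exact hm t ht hd
    · exact absurd e (hnotc hp hpr hu1 ⟨i, hi⟩)
  -- a chief factor above the core
  set π := QuotientGroup.mk' E with hπ
  have hsurj := QuotientGroup.mk'_surjective E
  haveI : (R.map π).Normal := hRn.map π hsurj
  have hRne : R.map π ≠ ⊥ := by
    intro e
    have hm' : u₀ ∈ E := by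
      rw [← QuotientGroup.ker_mk' E]
      exact (Subgroup.map_eq_bot_iff _).1 e hu₀R
    obtain ⟨j, hj⟩ := IsPGroup.iff_orderOf.1 hEp ⟨u₀, hm'⟩
    rw [Subgroup.orderOf_mk, hu₀o] at hj
    have hi0 : i₀ ≠ 0 := fun e' => hu₀1 (orderOf_eq_one_iff.1 (by rw [hu₀o, e', pow_zero]))
    exact hqr ((Nat.prime_dvd_prime_iff_eq hq hr).1 (hq.dvd_of_dvd_pow (hj ▸ dvd_pow_self q hi0)))
  obtain ⟨M, hMn, hM1, hMR, hMmin⟩ := CfsgLib.Coprime.exists_minimal_normal_le hRne
  haveI := hMn
  haveI : Group.IsSolvable (R.map π) := Group.isSolvable_of_surjective (π.subgroupMap_surjective R)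
  haveI : Group.IsSolvable M := Group.isSolvable_of_isSolvable_injective (inclusion_injective hMR)
  obtain ⟨hMab, s, hs, hMs⟩ := CfsgLib.Coprime.minimal_normal_solvable hM1 hMmin
  haveI : Fact s.Prime := ⟨hs⟩
  have hsr : s ≠ r := by
    intro e
    have hMp : IsPGroup r M := fun x => ⟨1, Subtype.ext (by
      rw [pow_one, SubmonoidClass.coe_pow, OneMemClass.coe_one, ← e]; exact hMs _ x.2)⟩
    refine hM1 ?_
    rw [← map_comap_eq_self_of_surjective hsurj M]
    refine (Subgroup.map_eq_bot_iff _).2 ((?_ : M.comap π ≤ E).trans (QuotientGroup.ker_mk' E).ge)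
    refine le_trans ?_ hEdef.ge
    exact CfsgLib.Coprime.le_pCore (hMp.comap_of_ker_isPGroup π (by rw [hπ, QuotientGroup.ker_mk']; exact hEp))
  obtain ⟨S⟩ : Nonempty (Sylow s (M.comap π)) := inferInstance
  obtain ⟨S', hS'def⟩ : ∃ S' : Subgroup G, S' = (S : Subgroup (M.comap π)).map (M.comap π).subtype := ⟨_, rfl⟩
  have hS'p : IsPGroup s S' := hS'def ▸ S.2.map _
  have hdis : ∀ x ∈ S', x ∈ E → x = 1 := by
    intro x hx hxE
    obtain ⟨i, hi⟩ := IsPGroup.iff_orderOf.1 hS'p ⟨x, hx⟩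
    obtain ⟨j, hj⟩ := IsPGroup.iff_orderOf.1 hEp ⟨x, hxE⟩
    rw [Subgroup.orderOf_mk] at hi hj
    exact orderOf_eq_one_iff.1 (Nat.eq_one_of_dvd_coprimes
      ((((Nat.coprime_primes hs hr).2 hsr).pow i j)) (hi ▸ dvd_rfl) (hj ▸ dvd_rfl))
  have hS'M : ∀ x ∈ S', π x ∈ M := fun x hx => mem_comap.1 (map_subtype_le _ (hS'def ▸ hx))
  have hS'ab : ∀ x ∈ S', ∀ x' ∈ S', x * x' = x' * x := by
    intro x hx x' hx'
    have h1 := hdis (⁅x, x'⁆) (mul_mem (mul_mem (mul_mem hx hx') (inv_mem hx)) (inv_mem hx'))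
      ((QuotientGroup.eq_one_iff _).1 (by
        show π ⁅x, x'⁆ = 1
        rw [map_commutatorElement, commutatorElement_eq_one_iff_mul_comm]
        exact hMab _ (hS'M x hx) _ (hS'M x' hx')))
    exact commutatorElement_eq_one_iff_mul_comm.1 h1
  have hS'exp : ∀ x ∈ S', x ^ s = 1 := fun x hx => hdis _ (pow_mem hx s)
    ((QuotientGroup.eq_one_iff _).1 (by show π (x ^ s) = 1; rw [map_pow]; exact hMs _ (hS'M x hx)))
  have hsM : s ∣ Nat.card (M.comap π) := by
    have h1 : s ∣ Nat.card M := by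
      obtain ⟨⟨x, hx⟩, hx1⟩ := ne_bot_iff_exists_ne_one.1 hM1
      have hxo : orderOf x = s := orderOf_eq_prime (hMs x hx) fun e => hx1 (Subtype.ext e)
      exact hxo ▸ orderOf_dvd_natCard _ hx
    exact h1.trans (card_dvd_of_surjective _ (π.subgroupComap_surjective_of_surjective M hsurj))
  obtain ⟨z, hzS, hz1⟩ : ∃ z ∈ S', z ≠ 1 := by
    obtain ⟨⟨x, hx⟩, hx1⟩ := ne_bot_iff_exists_ne_one.1 (S.ne_bot_of_dvd_card hsM)
    exact ⟨_, hS'def ▸ mem_map_of_mem _ hx, fun e => hx1 (Subtype.ext (Subtype.ext e))⟩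
  have hzo : orderOf z = s := orderOf_eq_prime (hS'exp z hzS) hz1
  have hS'z : S' = zpowers z :=
    mem_zpowers_of_fpf hV1 hs (fun g hg => hfix g s hs hsr hg) S' hS'ab hS'exp hzS hz1
  -- Frattini
  have htop : normalizer (S' : Set G) ⊔ E = ⊤ := by
    haveI : (M.comap π).Normal := hMn.comap π
    have h1 := S.normalizer_sup_eq_top
    rw [← hS'def] at h1
    refine top_le_iff.1 (h1 ▸ sup_le le_sup_left ?_)
    intro x hx
    -- split off the part in the core
    have h2 : S' ⊔ E = M.comap π := by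
      refine eq_of_le_of_card_ge (sup_le (hS'def ▸ map_subtype_le _) (fun e he => mem_comap.2 (by
        rw [show π e = 1 from (QuotientGroup.eq_one_iff e).2 he]; exact one_mem M))) ?_
      refine Nat.le_of_dvd Nat.card_pos ((Nat.dvd_iff_prime_pow_dvd_dvd _ _).2 fun p k hp hk => ?_)
      rcases eq_or_ne p s with rfl | hps
      · refine (full_of_not_dvd_index (H := (S : Subgroup (M.comap π))) hp S.not_dvd_index hk).trans ?_
        rw [← card_map_of_injective (M.comap π).subtype_injective, ← hS'def]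
        exact card_dvd_of_le le_sup_left
      · have hEM : E ≤ M.comap π := fun e he => mem_comap.2 (by
          rw [show π e = 1 from (QuotientGroup.eq_one_iff e).2 he]; exact one_mem M)
        have hidx : ¬ p ∣ (E.subgroupOf (M.comap π)).index := by
          intro hd
          have hker : (π.subgroupComap M).ker = E.subgroupOf (M.comap π) := by
            ext e
            rw [MonoidHom.mem_ker, mem_subgroupOf, ← QuotientGroup.eq_one_iff (N := E)]
            exact Subtype.ext_iff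
          have hcard : (E.subgroupOf (M.comap π)).index = Nat.card M := by
            rw [← hker, index_ker, MonoidHom.range_eq_top.2 (π.subgroupComap_surjective_of_surjective M hsurj),
              card_top]
          rw [hcard] at hd
          haveI : Fact p.Prime := ⟨hp⟩
          obtain ⟨⟨e, he⟩, heo⟩ := exists_prime_orderOf_dvd_card' (G := M) p hd
          rw [Subgroup.orderOf_mk] at heo
          exact hps ((Nat.prime_dvd_prime_iff_eq hp hs).1 (heo ▸ orderOf_dvd_of_pow_eq_one (hMs e he)))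
        refine (full_of_not_dvd_index hp hidx hk).trans ?_
        rw [Nat.card_congr (subgroupOfEquivOfLe hEM).toEquiv]
        exact card_dvd_of_le le_sup_right
    exact (sup_le (le_normalizer.trans le_sup_left) le_sup_right) (h2 ▸ hx)
  refine hns (solvable_of_sup_eq_top (N := E) inferInstance ?_ htop)
  rw [hS'z]
  refine solvable_normalizer_zpowers ?_
  rcases h.vals z hz1 with hza | hzb | hzc
  · -- a minimal centralizer
    haveI : Group.IsNilpotent (C[z] ⧸ center C[z]) := by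
      refine IsPGroup.isNilpotent (p := s) fun t => ?_
      obtain ⟨g, rfl⟩ := QuotientGroup.mk'_surjective _ t
      obtain ⟨i, n, hn, hgn⟩ := Nat.exists_eq_pow_mul_and_not_dvd (orderOf_pos (g : G)).ne' s hs.ne_one
      refine ⟨i, ?_⟩
      rw [← map_pow]
      refine (QuotientGroup.eq_one_iff _).2 (mem_center_iff.2 fun g' => Subtype.ext ?_)
      refine central_a hZ h hza hz1 (g ^ s ^ i).2 ?_ g'.2
      rw [hzo, SubmonoidClass.coe_pow]
      refine Nat.Coprime.coprime_dvd_right (orderOf_dvd_of_pow_eq_one (n := n) ?_) ((hs.coprime_iff_not_dvd).2 hn)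
      rw [← pow_mul, ← hgn, pow_orderOf_eq_one]
    haveI : Group.IsNilpotent C[z] := Group.of_quotient_center_nilpotent inferInstance
    infer_instance
  · refine solvable_of_two_orders (v := a) (w := b) fun x hx hx1 => ?_
    have hxz : x * z = z * x := mem_C.1 hx
    by_cases hsx : s ∣ orderOf x
    · have hle : C[x] ≤ C[z] := by
        set x' := x ^ (orderOf x / s) with hx'
        have hx'o : orderOf x' = s := orderOf_pow_orderOf_div (orderOf_pos x).ne' hsx
        have hx'1 : x' ≠ 1 := fun e => hs.ne_one (by rw [← hx'o, e, orderOf_one])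
        have hcm : x' * z = z * x' := ((show Commute x z from hxz).pow_left _).eq
        have hcomm : IsMulCommutative (closure ({z, x'} : Set G)) := by
          refine Subgroup.isMulCommutative_closure ?_
          rintro a' (rfl | rfl) b' (rfl | rfl)
          · rfl
          · exact hcm.symm
          · exact hcm
          · rfl
        have hab : ∀ p ∈ closure ({z, x'} : Set G), ∀ q' ∈ closure ({z, x'} : Set G), p * q' = q' * p :=
          fun p hp q' hq' => congrArg Subtype.val (hcomm.is_comm.comm ⟨p, hp⟩ ⟨q', hq'⟩)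
        have hexp : ∀ p ∈ closure ({z, x'} : Set G), p ^ s = 1 := by
          intro p hp
          refine closure_induction (p := fun p _ => p ^ s = 1) ?_ (one_pow s)
            (fun p q' hp hq' e e' => ?_) (fun p _ e => by rw [inv_pow, e, inv_one]) hp
          · rintro g (rfl | rfl)
            · rw [← hzo, pow_orderOf_eq_one]
            · rw [← hx'o, pow_orderOf_eq_one]
          · rw [(show Commute p q' from hab p hp q' hq').mul_pow, e, e', one_mul]
        have heq := mem_zpowers_of_fpf hV1 hs (fun g hg => hfix g s hs hsr hg) _ hab hexp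
          (subset_closure (Set.mem_insert_of_mem _ rfl)) hx'1
        intro g hg
        obtain ⟨j, hj⟩ := mem_zpowers_iff.1 (heq ▸ subset_closure (Set.mem_insert z {x'}) : z ∈ zpowers x')
        have hgx' : Commute g x' := (show Commute g x from mem_C.1 hg).pow_right _
        exact mem_C.2 (hj ▸ (hgx'.zpow_right j).eq)
      rw [inf_of_le_left hle]
      rcases h.vals x hx1 with e | e | e
      · exact Or.inl e
      · exact Or.inr (Or.inl e)
      · exact absurd (hsx.trans (e ▸ orderOf_dvd_cc (self_mem x))) fun hd => hsr (hc s hs hd)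
    · have hco : (orderOf x).Coprime (orderOf z) := by
        rw [hzo]; exact ((hs.coprime_iff_not_dvd).2 hsx).symm
      rw [← CfsgLib.ThreeSizes.cent_mul hxz hco]
      rcases h.vals _ (mul_ne_one_of_coprime hx1 hco) with e | e | e
      · exact Or.inl e
      · exact Or.inr (Or.inl e)
      · exfalso
        refine hcG s hs hsr ?_
        rw [← e, ← hzo]
        refine orderOf_dvd_cc (mem_C.2 ?_)
        rw [← mul_assoc, ← hxz, mul_assoc]
  · exact absurd (hzc ▸ hzo ▸ orderOf_dvd_cc (self_mem z)) fun hd => hsr (hc s hs hd)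

/-- Elements of the two kinds never commute. -/
theorem no_commute {y₀ w₀ : G} (hy₀ : cc y₀ = b) (hw₀ : cc w₀ = c) (hyw₀ : y₀ * w₀ = w₀ * y₀) : False := by
  classical
  have hsp := samePrime hZ h hns
  obtain ⟨r, hr, k, hk, hky, hy⟩ := prime_b hZ h hy₀
  obtain ⟨r', hr', l, hl, hlw, hw⟩ := prime_c hZ h hw₀
  set y := y₀ ^ k
  set w := w₀ ^ l
  have hyw : y * w = w * y := ((show Commute y₀ w₀ from hyw₀).pow_pow k l).eq
  obtain rfl : r = r' := hsp y w r r' hy hw hr hr' hk hl hyw
  obtain ⟨D, hDdef⟩ : ∃ D : Subgroup G, D = C[y] ⊓ C[w] := ⟨_, rfl⟩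
  have hdG := card_inter hZ h hy hw
  rw [← hDdef] at hdG
  have hyD : y ∈ D := hDdef ▸ ⟨self_mem y, mem_C.2 hyw⟩
  have hDp : ∀ p : ℕ, p.Prime → p ∣ Nat.card D → p = r := fun p hp hd =>
    meet_isPGroup hZ h hns hy hw hr hp hk hl (hDdef ▸ hd) hyw
  have hm : (C[y]).index * b = Nat.card G := by rw [← hy, mul_comm]; exact card_mul_index _
  have hn : (C[w]).index * c = Nat.card G := by rw [← hw, mul_comm]; exact card_mul_index _
  have hDn : Nat.card D * (C[w]).index = b := by
    apply Nat.eq_of_mul_eq_mul_right (show 0 < c from hw ▸ Nat.card_pos)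
    rw [mul_assoc, hn, hdG]
  have hDm : Nat.card D * (C[y]).index = c := by
    apply Nat.eq_of_mul_eq_mul_left (show 0 < b from hy ▸ Nat.card_pos)
    rw [← mul_assoc, mul_comm b, mul_assoc, mul_comm b, hm, hdG]
  -- a prime other than `r` divides exactly one of the two orders
  have hsplit : ∀ p : ℕ, p.Prime → p ≠ r → p ∣ Nat.card G →
      (p ∣ b ∧ ¬ p ∣ c ∧ ¬ p ∣ (C[y]).index) ∨ (p ∣ c ∧ ¬ p ∣ b ∧ ¬ p ∣ (C[w]).index) := by
    intro p hp hpr hpG
    have hpD : ¬ p ∣ Nat.card D := fun hd => hpr (hDp p hp hd)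
    by_cases hpb : p ∣ b
    · refine Or.inl ⟨hpb, fun hpc => ?_, fun hd => ?_⟩
      · rw [← hDn] at hpb
        rw [← hDm] at hpc
        exact hp.ne_one (Nat.dvd_one.1 (coprime_index hZ h hy hw ▸ Nat.dvd_gcd
          ((hp.dvd_mul.1 hpc).resolve_left hpD) ((hp.dvd_mul.1 hpb).resolve_left hpD)))
      · rw [← hDn] at hpb
        exact hp.ne_one (Nat.dvd_one.1 (coprime_index hZ h hy hw ▸ Nat.dvd_gcd hd
          ((hp.dvd_mul.1 hpb).resolve_left hpD)))
    · refine Or.inr ⟨?_, hpb, fun hd => hpb (hDn ▸ hd.mul_left _)⟩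
      exact ((hp.dvd_mul.1 ((hpG.trans (dvd_lcm hZ h)).trans (Nat.lcm_dvd_mul b c))).resolve_left hpb)
  have hpel : ∀ {u : G} {p : ℕ}, p.Prime → u ≠ 1 → (∃ i : ℕ, orderOf u = p ^ i) → p ∣ cc u := by
    rintro u p hp hu1 ⟨i, hi⟩
    have hi0 : i ≠ 0 := fun e => hu1 (orderOf_eq_one_iff.1 (by rw [hi, e, pow_zero]))
    exact (dvd_pow_self p hi0).trans (hi ▸ orderOf_dvd_cc (self_mem u))
  have hc_of : ∀ {u : G} {p : ℕ}, p.Prime → ¬ p ∣ b → u ≠ 1 → (∃ i : ℕ, orderOf u = p ^ i) → cc u = c := by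
    intro u p hp hpb hu1 hi
    rcases h.vals u hu1 with e | e | e
    · exact absurd ((e ▸ hpel hp hu1 hi).trans h.dvd) hpb
    · exact absurd (e ▸ hpel hp hu1 hi) hpb
    · exact e
  by_cases hc0 : ∀ p : ℕ, p.Prime → p ∣ c → p = r
  · refine r_center hZ h hns hy hw hr hk hyw (fun t ht hd => ?_) hc0
    by_contra htr
    rcases hsplit t ht htr (hd.trans (index_dvd_card _)) with ⟨-, -, e⟩ | ⟨e, -, -⟩
    · exact e hd
    · exact htr (hc0 t ht e)
  by_cases hb0 : ∀ p : ℕ, p.Prime → p ≠ r → p ∣ Nat.card G → ¬ p ∣ b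
  · refine hns (solvable_of_compl hr fun p hp hpr hpG => Or.inr fun u hu1 hi t ht hd => Or.inl ?_)
    rw [index_eq_of_cc ((hc_of hp (hb0 p hp hpr hpG) hu1 hi).trans hw.symm)] at hd
    by_contra htr
    rcases hsplit t ht htr (hd.trans (index_dvd_card _)) with ⟨e, -, -⟩ | ⟨-, -, e⟩
    · exact hb0 t ht htr (hd.trans (index_dvd_card _)) e
    · exact e hd
  push Not at hc0 hb0
  obtain ⟨p₀, hp₀, hp₀c, hp₀r⟩ := hc0
  obtain ⟨q₀, hq₀, hq₀r, hq₀G, hq₀b⟩ := hb0
  haveI : Fact p₀.Prime := ⟨hp₀⟩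
  have hp₀G : p₀ ∣ Nat.card G := hp₀c.trans (hw ▸ card_subgroup_dvd_card _)
  have hp₀b : ¬ p₀ ∣ b := by
    rcases hsplit p₀ hp₀ hp₀r hp₀G with ⟨-, e, -⟩ | ⟨-, e, -⟩
    · exact absurd hp₀c e
    · exact e
  obtain ⟨zc, hzc⟩ := exists_prime_orderOf_dvd_card' p₀ hp₀G
  have hzcc : cc zc = c := hc_of hp₀ hp₀b (fun e => hp₀.ne_one (by rw [← hzc, e, orderOf_one]))
    ⟨1, by rw [hzc, pow_one]⟩
  -- no element of prime order other than `r` is of the first kind
  have hnob : ∀ {v : G} {q : ℕ}, q.Prime → q ≠ r → orderOf v = q → cc v ≠ b := by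
    intro v q hq hqr hvo hvb
    have hqp : q ≠ p₀ := fun e => hp₀b (e ▸ hvo ▸ hvb ▸ orderOf_dvd_cc (self_mem v))
    haveI : Fact r.Prime := ⟨hr⟩
    obtain ⟨⟨t, ht⟩, hto⟩ := exists_prime_orderOf_dvd_card' (G := (C[v] ⊓ C[zc] : Subgroup G)) r (by
      rw [Nat.eq_of_mul_eq_mul_right Nat.card_pos ((card_inter hZ h hvb hzcc).trans hdG.symm), ← hk]
      exact orderOf_dvd_natCard _ hyD)
    rw [Subgroup.orderOf_mk] at hto
    rcases meet_prime hZ h hsp hvb hzcc hq hp₀ hr hvo hzc hto hqp (mem_inf.1 ht).1 (mem_inf.1 ht).2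
      with ⟨-, e⟩ | ⟨-, e⟩
    · exact hp₀r e.symm
    · exact hqr e.symm
  have ha_of : ∀ {u : G} {q : ℕ}, q.Prime → q ≠ r → ¬ q ∣ c → u ≠ 1 → (∃ i : ℕ, orderOf u = q ^ i) →
      cc u = a := by
    intro u q hq hqr hqc hu1 hi
    rcases h.vals u hu1 with e | e | e
    · exact e
    · obtain ⟨q', hq', j, hj, -, hjb⟩ := prime_b hZ h e
      obtain ⟨i, hi⟩ := hi
      have hq'q : q' = q := (Nat.prime_dvd_prime_iff_eq hq' hq).1
        (hq'.dvd_of_dvd_pow (hi ▸ hj ▸ orderOf_pow_dvd j))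
      exact absurd hjb (hnob hq hqr (hj.trans hq'q))
    · exact absurd (e ▸ hpel hq hu1 hi) hqc
  have hafull : ∀ {t : ℕ} {u : G}, t.Prime → t ≠ r → t ∣ b → ¬ t ∣ c → cc u = a → ¬ t ∣ (C[u]).index := by
    intro t u ht htr htb htc hu hd
    obtain ⟨z, hz, hfull⟩ := exists_full t ht (hd.trans (index_dvd_card _))
    have hza := ha_of (u := z) ht htr htc (fun e => ht.ne_one (by rw [← hz, e, orderOf_one])) ⟨1, by rw [hz, pow_one]⟩
    rw [index_eq_of_cc (hu.trans hza.symm)] at hd
    exact not_dvd_index_of_full ht hfull hd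
  have hcompl : ∀ p q : ℕ, p.Prime → q.Prime → p ≠ r → q ≠ r → p ∣ c → ¬ p ∣ b → q ∣ b → ¬ q ∣ c →
      Cfsg.HasNormalPComplement p G ∨ Cfsg.HasNormalPComplement q G := by
    intro p q hp hq hpr hqr hpc hpb hqb hqc
    have hpq : p ≠ q := fun e => hpb (e ▸ hqb)
    refine Cfsg.Agent.S4160.result p q hp hq hpq ⟨y, ?_⟩ ⟨w, ?_⟩ fun x hd => ?_
    · rw [← hDm] at hpc
      exact (hp.dvd_mul.1 hpc).resolve_left fun hd => hpr (hDp p hp hd)
    · rw [← hDn] at hqb
      exact (hq.dvd_mul.1 hqb).resolve_left fun hd => hqr (hDp q hq hd)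
    · have hx1 : x ≠ 1 := by
        rintro rfl
        rw [index_eq_one.2 (eq_top_iff.2 fun g _ => mem_C.2 (by rw [mul_one, one_mul]))] at hd
        exact hp.ne_one (Nat.dvd_one.1 ((dvd_mul_right p q).trans hd))
      rcases h.vals x hx1 with e | e | e
      · exact hafull hq hqr hqb hqc e ((dvd_mul_left q p).trans hd)
      · rw [index_eq_of_cc (e.trans hy.symm)] at hd
        rcases hsplit q hq hqr (hqb.trans (hy ▸ card_subgroup_dvd_card _)) with ⟨-, -, e'⟩ | ⟨e', -, -⟩
        · exact e' ((dvd_mul_left q p).trans hd)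
        · exact hqc e'
      · rw [index_eq_of_cc (e.trans hw.symm)] at hd
        rcases hsplit p hp hpr (hpc.trans (hw ▸ card_subgroup_dvd_card _)) with ⟨e', -, -⟩ | ⟨-, -, e'⟩
        · exact hpb e'
        · exact e' ((dvd_mul_right p q).trans hd)
  by_cases hall : ∀ q : ℕ, q.Prime → q ≠ r → q ∣ b → ¬ q ∣ c → Cfsg.HasNormalPComplement q G
  · refine hns (solvable_of_compl hr fun p hp hpr hpG => ?_)
    rcases hsplit p hp hpr hpG with ⟨e1, e2, -⟩ | ⟨-, e2, -⟩
    · exact Or.inl (hall p hp hpr e1 e2)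
    · refine Or.inr fun u hu1 hi t ht hd => or_iff_not_imp_left.2 fun htr => ?_
      rw [index_eq_of_cc ((hc_of hp e2 hu1 hi).trans hw.symm)] at hd
      rcases hsplit t ht htr (hd.trans (index_dvd_card _)) with ⟨f1, f2, -⟩ | ⟨-, -, f3⟩
      · exact hall t ht htr f1 f2
      · exact absurd hd f3
  · push Not at hall
    obtain ⟨q₁, hq₁, hq₁r, hq₁b, hq₁c, hno⟩ := hall
    have hallc : ∀ p : ℕ, p.Prime → p ≠ r → p ∣ c → ¬ p ∣ b → Cfsg.HasNormalPComplement p G :=
      fun p hp hpr h1 h2 => (hcompl p q₁ hp hq₁ hpr hq₁r h1 h2 hq₁b hq₁c).resolve_right hno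
    refine hns (solvable_of_compl hr fun p hp hpr hpG => ?_)
    rcases hsplit p hp hpr hpG with ⟨-, e2, -⟩ | ⟨e1, e2, -⟩
    · refine Or.inr fun u hu1 hi t ht hd => or_iff_not_imp_left.2 fun htr => ?_
      rcases hsplit t ht htr (hd.trans (index_dvd_card _)) with ⟨f1, f2, -⟩ | ⟨f1, f2, -⟩
      · exact absurd hd (hafull ht htr f1 f2 (ha_of hp hpr e2 hu1 hi))
      · exact hallc t ht htr f1 f2
    · exact Or.inl (hallc p hp hpr e1 e2)

end CfsgLib.CIT.ThreeGen
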