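import Cfsg.Agent.Lib.CIT.ThreeGen.CaseI
import Cfsg.Agent.Lib.CIT.ThreeSizes.Chars
import Cfsg.Agent.Lib.PGroup.FixedPointFree

/-!
# The elements of the first kind lie in the radical
-/

set_option autoImplicit false
set_option linter.unusedSectionVars false
set_option linter.style.haveILetI false
set_option maxHeartbeats 1000000

namespace CfsgLib.CIT.ThreeGen

open Subgroup Cfsg CfsgLib.Char
open CfsgLib.CIT.ThreeSizes (cc Chain mem_C self_mem C_le_pow mem_of_commute_mul mul_ne_one_of_coprime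
  cc_le eq_of_le_of_cc orderOf_dvd_cc exists_prime_pow exists_full oneChar)
open scoped ComplexConjugate commutatorElement

universe u

/-- A fixed-point-free element of prime order makes a normal subgroup nilpotent. -/
theorem isNilpotent_of_fpf_normal {G : Type u} [Group G] [Finite G] {K : Subgroup G} [K.Normal] {x : G}
    {p : ℕ} (hp : p.Prime) (hx : orderOf x = p) (hfix : ∀ k ∈ K, k * x = x * k → k = 1) :
    Group.IsNilpotent K := by
  refine CfsgLib.PGroup.isNilpotent_of_fixedPointFree hp K (MulAut.conjNormal x) (fun k hk => ?_) fun k => ?_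
  · refine Subtype.ext (hfix k k.2 ?_)
    have h1 : x * (k : G) * x⁻¹ = k := (MulAut.conjNormal_apply x k).symm.trans (congrArg Subtype.val hk)
    exact (mul_inv_eq_iff_eq_mul.1 h1).symm
  · have key : ∀ j : ℕ, ∀ k : K, ((⇑(MulAut.conjNormal (H := K) x))^[j] k : K).1 = x ^ j * k * (x ^ j)⁻¹ := by
      intro j
      induction j with
      | zero => intro k; simp
      | succ j ih =>
        intro k
        rw [Function.iterate_succ_apply', MulAut.conjNormal_apply, ih, pow_succ' x j]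
        group
    refine Subtype.ext ?_
    rw [key, ← hx, pow_orderOf_eq_one]
    group

variable {G : Type u} [Group G] [Fintype G]

theorem norm_le_degree {V : Type*} [AddCommGroup V] [Module ℂ V] [FiniteDimensional ℂ V]
    (ρ : Representation ℂ G V) (g : G) : ‖ρ.character g‖ ≤ (Module.finrank ℂ V : ℝ) := by
  obtain ⟨b, μ, h1, -, h3⟩ := exists_eigen_data ρ g
  have e := h3 1
  simp only [pow_one] at e
  rw [e]
  refine (norm_sum_le _ _).trans (le_of_eq ?_)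
  rw [Finset.sum_congr rfl fun i _ => norm_eq_one_of_pow_eq_one' (orderOf_pos g).ne' (h1 i)]
  simp

/-- The kernel of an irreducible character. -/
theorem irr_kernel (χ : IrrCharacter G) :
    (∀ g x : G, (χ : G → ℂ) g = (χ : G → ℂ) 1 → (χ : G → ℂ) (g * x) = (χ : G → ℂ) x) ∧
      (∀ g : G, (χ : G → ℂ) g = (χ : G → ℂ) 1 → (χ : G → ℂ) g⁻¹ = (χ : G → ℂ) 1) := by
  obtain ⟨χ, n, ρ, hρ, rfl⟩ := χ
  have key : ∀ g : G, ρ.character g = ρ.character 1 → ρ g = 1 := fun g hg => by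
    rw [Representation.char_one] at hg
    exact (char_eq_degree_iff ρ g).1 hg
  refine ⟨fun g x hg => ?_, fun g hg => ?_⟩
  · show ρ.character (g * x) = ρ.character x
    simp only [Representation.character, map_mul, key g hg, one_mul]
  · show ρ.character g⁻¹ = ρ.character 1
    have h1 : ρ g⁻¹ = 1 := by
      have := congrArg ρ (mul_inv_cancel g)
      rwa [map_mul, key g hg, one_mul, map_one] at this
    simp only [Representation.character, h1, map_one]

/-- The value of maximal absolute value is taken at elements central modulo the kernel. -/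
theorem irr_commutator_of_norm (χ : IrrCharacter G) {y : G}
    (hy : ((χ : G → ℂ) 1).re ≤ ‖(χ : G → ℂ) y‖) (g : G) : (χ : G → ℂ) ⁅g, y⁆ = (χ : G → ℂ) 1 := by
  obtain ⟨χ, n, ρ, hρ, rfl⟩ := χ
  change (ρ.character 1).re ≤ ‖ρ.character y‖ at hy
  show ρ.character ⁅g, y⁆ = ρ.character 1
  rw [Representation.char_one, Complex.natCast_re] at hy
  obtain ⟨ω, hω⟩ := (norm_char_eq_iff ρ y).1 (le_antisymm (norm_le_degree ρ y) hy)
  have hc : ρ (g * y) = ρ (y * g) := by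
    rw [map_mul, map_mul, hω]
    ext v
    simp [Module.End.mul_apply]
  rw [commutatorElement_def, show g * y * g⁻¹ * y⁻¹ = (g * y) * (y * g)⁻¹ by group]
  simp only [Representation.character]
  rw [map_mul, hc, ← map_mul, mul_inv_cancel]

variable (hZ : center G = ⊥) {a b c : ℕ} (h : CfsgLib.CIT.ThreeSizes.Chain G a b c)

include hZ h

/-- The product rule for a pair from the two classes. -/
theorem prod_rule {y u : G} (hy : cc y = b) (hu : cc u = c) (χ : IrrCharacter G) :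
    (χ : G → ℂ) y * (χ : G → ℂ) u = (χ : G → ℂ) 1 * (χ : G → ℂ) (y * u) := by
  classical
  have hcl : ∀ x g : G, (χ : G → ℂ) (g * x * g⁻¹) = (χ : G → ℂ) x :=
    isClassFunction_of_isGeneralized (isGeneralizedCharacter_of_isCharacter (isCharacter_irr χ))
  have hz : ∀ z : G, (classConst y u z : ℂ) * (χ : G → ℂ) z =
      (classConst y u z : ℂ) * (χ : G → ℂ) (y * u) := by
    intro z
    by_cases he : IsEmpty {p : G × G // IsConj y p.1 ∧ IsConj u p.2 ∧ p.1 * p.2 = z}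
    · rw [classConst, Nat.card_of_isEmpty, Nat.cast_zero, zero_mul, zero_mul]
    rw [not_isEmpty_iff] at he
    obtain ⟨⟨p, p'⟩, h1, h2, rfl⟩ := he
    obtain ⟨g₁, rfl⟩ := isConj_iff.1 h1
    obtain ⟨g₂, rfl⟩ := isConj_iff.1 h2
    obtain ⟨g, hg1, hg2⟩ := pair_conj hZ h hy hu g₁ g₂
    rw [← hg1, ← hg2, show g * y * g⁻¹ * (g * u * g⁻¹) = g * (y * u) * g⁻¹ by group, hcl]
  have h1 := omega_mul χ y u
  have h0 := omega_mul (oneChar (G := G)) y u
  simp only [omega, oneChar, mul_one, div_one] at h0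
  rw [Finset.sum_congr rfl fun z _ => by rw [hz z, mul_div_assoc], ← Finset.sum_mul, ← h0] at h1
  simp only [omega] at h1
  have hd := irr_one_ne_zero χ
  have hk : ∀ x : G, (Nat.card {v : G // IsConj x v} : ℂ) ≠ 0 := fun x =>
    Nat.cast_ne_zero.2 (Nat.card_pos_iff.2 ⟨⟨⟨x, IsConj.refl x⟩⟩, inferInstance⟩).ne'
  field_simp at h1
  exact h1

/-- If `c` has two prime divisors the elements of the first kind lie in the radical. -/
theorem b_mem_rad (hns : ¬ Group.IsSolvable G) (htwo : ∀ s : ℕ, s.Prime → ∃ q : ℕ, q.Prime ∧ q ∣ c ∧ q ≠ s)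
    {R : Subgroup G} [R.Normal] (hRs : Group.IsSolvable R)
    (hR : ∀ N : Subgroup G, N.Normal → Group.IsSolvable N → N ≤ R) {y : G} (hy : cc y = b) : y ∈ R := by
  classical
  obtain ⟨hbc, hco⟩ := card_mul_eq hZ h hns
  obtain ⟨W, hW⟩ := exists_W hZ h hns
  have hWc : Nat.card W = c := hW.card
  have hA : ∀ x ∈ W, x ≠ 1 → centralizer ({x} : Set G) = W := hW.cent
  have hab : ∀ x ∈ W, ∀ x' ∈ W, x * x' = x' * x := hW.comm
  obtain ⟨w, hwW, hw1⟩ : ∃ w ∈ W, w ≠ 1 := by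
    obtain ⟨w₀, hw₀1, hw₀⟩ := h.exc
    obtain ⟨g, hg⟩ := exists_conj hZ h hns hW hw₀
    exact ⟨_, hg, fun e => hw₀1 (conj_eq_one_iff.1 e)⟩
  haveI : Nontrivial W := ⟨⟨⟨w, hwW⟩, 1, fun e => hw1 (congrArg Subtype.val e)⟩⟩
  have hWu : ∀ u ∈ W, u ≠ 1 → cc u = c := fun u hu hu1 => exists_conj_c hZ h hns hW hu hu1
  -- elements outside the second kind do not reach `W`
  have hout : ∀ x : G, x ≠ 1 → cc x ≠ c → ∀ g : G, g * x * g⁻¹ ∈ W → g * x * g⁻¹ = 1 := by
    intro x hx1 hx g hg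
    by_contra hne
    refine hx (typ_c hZ h hns hx1 ?_)
    rw [← CfsgLib.CIT.orderOf_conj_eq g x, ← hWc]
    exact Subgroup.orderOf_dvd_natCard _ hg
  obtain ⟨D⟩ := nonempty_excData W hA hab
  set e := excIndex W with hedef
  set N := normalizer (W : Set G) with hNdef
  have hea : e ≤ a := (normalizer_index hZ h hns hW).2
  -- at least two exceptional characters
  haveI : Fintype (IrrCharacter G) := Fintype.ofFinite _
  haveI : Fintype (Exc W) := Fintype.ofFinite _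
  set n := Nat.card (Exc W) with hndef
  have hne : n * e = c - 1 := hWc ▸ card_exc W hA hab
  have hc1 : 2 ≤ c := hWc ▸ Finite.one_lt_card (α := W)
  have hn2 : 2 ≤ n := by
    by_contra hn
    have hn1 : n = 1 := by
      rcases Nat.eq_zero_or_pos n with h0 | h0
      · rw [h0, zero_mul] at hne; omega
      · omega
    rw [hn1, one_mul] at hne
    obtain ⟨s, hs, k, hk, -⟩ := exists_prime_pow hw1
    have hwkW : w ^ k ∈ W := pow_mem hwW k
    have hwk1 : w ^ k ≠ 1 := fun e0 => hs.ne_one (by rw [← hk, e0, orderOf_one])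
    -- every nontrivial element of `W` is conjugate to that element
    let f : N ⧸ W.subgroupOf N → {x : W // x ≠ 1} := Quotient.lift
      (fun g : N => ⟨⟨(g : G) * w ^ k * (g : G)⁻¹, (mem_normalizer_iff.1 g.2 _).1 hwkW⟩,
        fun e0 => hwk1 (conj_eq_one_iff.1 (congrArg Subtype.val e0))⟩) fun g g' hg => by
        refine Subtype.ext (Subtype.ext ?_)
        have hm := hab _ (mem_subgroupOf.1 (QuotientGroup.leftRel_apply.1 hg)) _ hwkW
        show (g : G) * w ^ k * (g : G)⁻¹ = (g' : G) * w ^ k * (g' : G)⁻¹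
        have e0 : (g' : G) = g * ((g : G)⁻¹ * g') := by group
        rw [e0, show (g : G) * ((g : G)⁻¹ * g') * w ^ k * ((g : G) * ((g : G)⁻¹ * g'))⁻¹ =
          (g : G) * (((g : G)⁻¹ * g') * w ^ k) * ((g : G)⁻¹ * g')⁻¹ * (g : G)⁻¹ by group,
          show ((g : G)⁻¹ * g') * w ^ k = w ^ k * ((g : G)⁻¹ * g') from hm]
        group
    have hinj : Function.Injective f := by
      intro x x'
      induction x using QuotientGroup.induction_on with
      | H g =>
      induction x' using QuotientGroup.induction_on with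
      | H g' =>
      intro he
      have he' : (g : G) * w ^ k * (g : G)⁻¹ = (g' : G) * w ^ k * (g' : G)⁻¹ :=
        congrArg (fun z : {x : W // x ≠ 1} => ((z : W) : G)) he
      refine QuotientGroup.eq.2 (mem_subgroupOf.2 ?_)
      rw [← hA _ hwkW hwk1, mem_C]
      show (g : G)⁻¹ * g' * w ^ k = w ^ k * ((g : G)⁻¹ * g')
      calc (g : G)⁻¹ * g' * w ^ k = (g : G)⁻¹ * ((g' : G) * w ^ k * (g' : G)⁻¹) * g' := by group
        _ = w ^ k * ((g : G)⁻¹ * g') := by rw [← he']; group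
    haveI : Fintype (N ⧸ W.subgroupOf N) := Fintype.ofFinite _
    haveI : Fintype {x : W // x ≠ 1} := Fintype.ofFinite _
    have hbij : Function.Bijective f := by
      refine (Fintype.bijective_iff_injective_and_card f).2 ⟨hinj, ?_⟩
      rw [← Nat.card_eq_fintype_card, ← Nat.card_eq_fintype_card]
      show (W.subgroupOf N).index = _
      haveI : Fintype W := Fintype.ofFinite _
      rw [show (W.subgroupOf N).index = e from rfl, hne, ← hWc, Nat.card_eq_fintype_card (α := {x : W // x ≠ 1}),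
        Nat.card_eq_fintype_card, Fintype.card_subtype_compl, Fintype.card_subtype_eq]
    obtain ⟨q, hq, hqc, hqs⟩ := htwo s hs
    rw [← hWc] at hqc
    haveI : Fact q.Prime := ⟨hq⟩
    obtain ⟨⟨v, hv⟩, hvo⟩ := exists_prime_orderOf_dvd_card' (G := W) q hqc
    rw [Subgroup.orderOf_mk] at hvo
    obtain ⟨x, hx⟩ := hbij.2 ⟨⟨v, hv⟩, fun e0 => hq.ne_one (by
      rw [← hvo, show v = 1 from congrArg Subtype.val e0, orderOf_one])⟩
    induction x using QuotientGroup.induction_on with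
    | H g =>
      refine hqs ?_
      rw [← hvo, ← show (g : G) * w ^ k * (g : G)⁻¹ = v from
        congrArg (fun z : {x : W // x ≠ 1} => ((z : W) : G)) hx, CfsgLib.CIT.orderOf_conj_eq, hk]
  haveI : Nontrivial (Exc W) := Finite.one_lt_card_iff_nontrivial.1 hn2
  -- class functions and constants
  have hcl : ∀ (ψ : IrrCharacter G) (x g : G), (ψ : G → ℂ) (g * x * g⁻¹) = (ψ : G → ℂ) x := fun ψ =>
    isClassFunction_of_isGeneralized (isGeneralizedCharacter_of_isCharacter (isCharacter_irr ψ))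
  choose cst hcst using fun ψ : IrrCharacter G => exists_const_value W hA hab D ψ
  set S : Finset (IrrCharacter G) := Finset.univ.image D.θ with hSdef
  have hS : ∀ ψ, ψ ∉ S → ∀ i, D.θ i ≠ ψ := fun ψ hψ i e0 =>
    hψ (Finset.mem_image.2 ⟨i, Finset.mem_univ _, e0⟩)
  have hψu : ∀ ψ, ψ ∉ S → ∀ u ∈ W, u ≠ 1 → (ψ : G → ℂ) u = cst ψ := fun ψ hψ u hu hu1 =>
    (hcst ψ ⟨u, le_normalizer hu⟩ hu fun e0 => hu1 (congrArg Subtype.val e0)).2 (hS ψ hψ)
  have hθu : ∀ i, ∀ u ∈ W, ∀ hu : u ≠ 1, ∀ hm : u ∈ normalizer (W : Set G), (D.θ i : G → ℂ) u =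
      (D.ε : ℂ) * (i.1 : ↥(normalizer (W : Set G)) → ℂ) ⟨u, hm⟩ + cst (D.θ i) :=
    fun i u hu hu1 hm => (hcst (D.θ i) ⟨u, hm⟩ hu fun e0 => hu1 (congrArg Subtype.val e0)).1 i rfl
  have hε : (D.ε : ℂ) * D.ε = 1 := by
    rcases D.sign with hs | hs <;> rw [hs] <;> norm_num
  have hε0 : (D.ε : ℂ) ≠ 0 := fun e0 => by rw [e0, zero_mul] at hε; exact zero_ne_one hε
  obtain ⟨i₀⟩ : Nonempty (Exc W) := inferInstance
  obtain ⟨u₀, hu₀W, hu₀1⟩ : ∃ u ∈ W, u ≠ 1 := ⟨w, hwW, hw1⟩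
  set c₀ := cst (D.θ i₀) with hc₀
  have hconst : ∀ i, cst (D.θ i) = c₀ := by
    intro i
    have h1 := exc_diff_ind W hA hab i i₀ ⟨u₀, le_normalizer hu₀W⟩
    rw [D.ind] at h1
    simp only [Pi.smul_apply, Pi.sub_apply, smul_eq_mul] at h1
    rw [hθu i u₀ hu₀W hu₀1 (le_normalizer hu₀W), hθu i₀ u₀ hu₀W hu₀1 (le_normalizer hu₀W)] at h1
    have h2 : (cst (D.θ i) : ℂ) = c₀ := by
      apply mul_left_cancel₀ hε0
      linear_combination h1 - ((i.1 : ↥(normalizer (W : Set G)) → ℂ) ⟨u₀, le_normalizer hu₀W⟩ -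
        (i₀.1 : ↥(normalizer (W : Set G)) → ℂ) ⟨u₀, le_normalizer hu₀W⟩) * hε
    exact_mod_cast h2
  have hθeq : ∀ x : G, (∀ g : G, g * x * g⁻¹ ∈ W → g * x * g⁻¹ = 1) →
      ∀ i, (D.θ i : G → ℂ) x = (D.θ i₀ : G → ℂ) x := by
    intro x hx i
    have h1 := exc_diff_vanish W hA hab i i₀ x hx
    rw [D.ind] at h1
    simp only [Pi.smul_apply, Pi.sub_apply, smul_eq_mul, mul_eq_zero, sub_eq_zero] at h1
    exact h1.resolve_left hε0
  have hone : oneChar ∉ S := fun hm => by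
    obtain ⟨i, -, e0⟩ := Finset.mem_image.1 hm
    exact exc_not_one W hA hab D i (by rw [e0]; rfl)
  have hsplit : ∀ F : IrrCharacter G → ℂ, ∑ ψ, F ψ = ∑ ψ ∈ Sᶜ, F ψ + ∑ i : Exc W, F (D.θ i) := by
    intro F
    rw [← Finset.sum_compl_add_sum S, hSdef, Finset.sum_image fun x _ x' _ e0 => D.inj e0]
  have hy1 := ne_one_b hZ h hy
  have hyc : cc y ≠ c := hy ▸ ne_bc hZ h
  have hyW : ∀ g : G, g * y * g⁻¹ ∈ W → g * y * g⁻¹ = 1 := hout y hy1 hyc
  set d := (D.θ i₀ : G → ℂ) 1 with hddef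
  have hd : ∀ i, (D.θ i : G → ℂ) 1 = d := hθeq 1 fun g _ => by group
  have hd0 : d ≠ 0 := irr_one_ne_zero _
  obtain ⟨hsum1, hsum2⟩ := sum_exc_column W hA hab (k := ⟨u₀, le_normalizer hu₀W⟩) hu₀W
    fun e0 => hu₀1 (congrArg Subtype.val e0)
  obtain ⟨md, -, hmd⟩ := isIrrCharacter_degree (D.θ i₀).2
  rw [← hddef] at hmd
  -- the common kernel of the characters in the support of the column
  let K₀ : Subgroup G :=
    { carrier := {g | ∀ ψ : IrrCharacter G, (cst ψ ≠ 0 ∨ ψ ∈ S) → (ψ : G → ℂ) g = (ψ : G → ℂ) 1}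
      one_mem' := fun ψ _ => rfl
      mul_mem' := fun {g g'} hg hg' ψ hψ => ((irr_kernel ψ).1 g g' (hg ψ hψ)).trans (hg' ψ hψ)
      inv_mem' := fun {g} hg ψ hψ => (irr_kernel ψ).2 g (hg ψ hψ) }
  haveI : K₀.Normal := ⟨fun g hg x ψ hψ => (hcl ψ g x).trans (hg ψ hψ)⟩
  let N₀ : Subgroup G :=
    { carrier := {g | ∀ ψ : IrrCharacter G, ψ ∉ S → cst ψ ≠ 0 → (ψ : G → ℂ) g = (ψ : G → ℂ) 1}
      one_mem' := fun ψ _ _ => rfl
      mul_mem' := fun {g g'} hg hg' ψ hψ h0 => ((irr_kernel ψ).1 g g' (hg ψ hψ h0)).trans (hg' ψ hψ h0)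
      inv_mem' := fun {g} hg ψ hψ h0 => (irr_kernel ψ).2 g (hg ψ hψ h0) }
  haveI : N₀.Normal := ⟨fun g hg x ψ hψ h0 => (hcl ψ g x).trans (hg ψ hψ h0)⟩
  have hK₀R : K₀ ≤ R := by
    have hKW : ∀ v ∈ W, v ∈ K₀ → v = 1 := by
      intro v hv hvK
      by_contra hv1
      have h1 := sum_irr_mul_conj v (1 : G)
      rw [if_neg fun e0 => hv1 (isConj_one_left.1 e0)] at h1
      have h2 := sum_irr_mul_conj v v
      rw [if_pos (IsConj.refl v), show Nat.card (centralizer ({v} : Set G)) = c from hWu v hv hv1,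
        Finset.sum_congr rfl (g := fun ψ : IrrCharacter G => (ψ : G → ℂ) v * conj ((ψ : G → ℂ) 1))
          fun ψ _ => by
            by_cases hψ : cst ψ ≠ 0 ∨ ψ ∈ S
            · rw [hvK ψ hψ]
            · push Not at hψ
              rw [hψu ψ hψ.2 v hv hv1, hψ.1, Int.cast_zero, zero_mul, zero_mul], h1] at h2
      have : c = 0 := by exact_mod_cast h2.symm
      exact absurd this (hWc ▸ Nat.card_pos.ne')
    obtain ⟨s, hs, k, hk, -⟩ := exists_prime_pow hw1
    have hwk1 : w ^ k ≠ 1 := fun e0 => hs.ne_one (by rw [← hk, e0, orderOf_one])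
    haveI := isNilpotent_of_fpf_normal (K := K₀) hs hk fun g hg hc' =>
      hKW g (hA _ (pow_mem hwW k) hwk1 ▸ mem_C.2 hc') hg
    exact hR K₀ inferInstance inferInstance
  have hN₀el : ∀ g ∈ N₀, g ∈ R ∨ ∃ x : G, x * g * x⁻¹ ∈ W := by
    intro g hg
    by_cases hgW : ∀ x : G, x * g * x⁻¹ ∈ W → x * g * x⁻¹ = 1
    swap
    · push Not at hgW
      obtain ⟨x, hx, -⟩ := hgW
      exact Or.inr ⟨x, hx⟩
    refine Or.inl (hK₀R fun ψ hψ => ?_)
    by_cases hψS : ψ ∈ S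
    swap
    · exact hg ψ hψS (hψ.resolve_right hψS)
    obtain ⟨i, -, rfl⟩ := Finset.mem_image.1 hψS
    rw [hθeq g hgW i, hd i]
    have hne' : ¬ IsConj u₀ g := fun e0 => by
      obtain ⟨x, hx⟩ := isConj_iff.1 e0.symm
      exact hu₀1 (hx ▸ hgW x (hx.symm ▸ hu₀W))
    have h1 := sum_irr_mul_conj u₀ g
    have h2 := sum_irr_mul_conj u₀ (1 : G)
    rw [if_neg hne', hsplit] at h1
    rw [if_neg fun e0 => hu₀1 (isConj_one_left.1 e0), hsplit] at h2
    rw [Finset.sum_congr rfl (g := fun ψ : IrrCharacter G => (ψ : G → ℂ) u₀ * conj ((ψ : G → ℂ) 1)) fun ψ hψ' => by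
        by_cases h0 : cst ψ = 0
        · rw [hψu ψ (Finset.mem_compl.1 hψ') u₀ hu₀W hu₀1, h0, Int.cast_zero, zero_mul, zero_mul]
        · rw [hg ψ (Finset.mem_compl.1 hψ') h0],
      Finset.sum_congr (s₁ := (Finset.univ : Finset (Exc W))) rfl fun i _ => by rw [hθeq g hgW i],
      ← Finset.sum_mul] at h1
    rw [Finset.sum_congr (s₁ := (Finset.univ : Finset (Exc W))) rfl fun i _ => by rw [hd i],
      ← Finset.sum_mul] at h2
    have hT : ∑ i : Exc W, (D.θ i : G → ℂ) u₀ ≠ 0 := by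
      rw [Finset.sum_congr rfl fun i _ => by rw [hθu i u₀ hu₀W hu₀1 (le_normalizer hu₀W), hconst],
        Finset.sum_add_distrib, ← Finset.mul_sum, hsum1, Finset.sum_const, Finset.card_univ,
        ← Nat.card_eq_fintype_card, ← hndef, nsmul_eq_mul]
      intro h0
      have hz : (n : ℤ) * c₀ = D.ε := by
        have : (((n : ℤ) * c₀ : ℤ) : ℂ) = ((D.ε : ℤ) : ℂ) := by push_cast; linear_combination h0
        exact_mod_cast this
      have hdvd : (n : ℤ) ∣ 1 := by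
        rcases D.sign with hs | hs <;> rw [hs] at hz
        · exact ⟨c₀, hz.symm⟩
        · exact ⟨-c₀, by linear_combination hz⟩
      have := Nat.dvd_one.1 (by exact_mod_cast hdvd : n ∣ 1)
      omega
    have h3 : conj ((D.θ i₀ : G → ℂ) g) = conj d := by
      apply mul_left_cancel₀ hT
      linear_combination h1 - h2
    exact (starRingEnd ℂ).injective h3
  have hN₀R : N₀ ≤ R := by
    have hsup : W ⊓ N₀ ⊔ R ⊓ N₀ = N₀ := by
      refine eq_of_le_of_card_ge (sup_le inf_le_right inf_le_right) (Nat.le_of_dvd Nat.card_pos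
        ((Nat.dvd_iff_prime_pow_dvd_dvd _ _).2 fun p k hp hk => ?_))
      by_cases hpc : p ∣ c
      · refine dvd_trans ?_ (card_dvd_of_le (le_sup_left : W ⊓ N₀ ≤ W ⊓ N₀ ⊔ R ⊓ N₀))
        rw [← Nat.card_congr (subgroupOfEquivOfLe (inf_le_right : W ⊓ N₀ ≤ N₀)).toEquiv]
        refine full_of_not_dvd_index hp (fun hd => ?_) hk
        rw [show ((W ⊓ N₀).subgroupOf N₀).index = W.relIndex N₀ from inf_relIndex_right W N₀] at hd
        have h' := hd.trans (CfsgLib.PGroup.relIndex_dvd_index_normal_right W N₀)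
        have h3 := card_mul_index W
        rw [hWc, ← hbc, mul_comm b c] at h3
        rw [Nat.eq_of_mul_eq_mul_left (hWc ▸ Nat.card_pos) h3] at h'
        exact hp.ne_one (Nat.eq_one_of_dvd_coprimes hco h' hpc)
      · refine dvd_trans ?_ (card_dvd_of_le (le_sup_right : R ⊓ N₀ ≤ W ⊓ N₀ ⊔ R ⊓ N₀))
        haveI : Fact p.Prime := ⟨hp⟩
        obtain ⟨P⟩ : Nonempty (Sylow p N₀) := inferInstance
        refine ((Sylow.pow_dvd_card_of_pow_dvd_card P hk)).trans ?_
        rw [← card_map_of_injective N₀.subtype_injective]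
        refine card_dvd_of_le ?_
        rintro _ ⟨g, hg, rfl⟩
        rcases hN₀el g g.2 with hgR | ⟨x, hx⟩
        · exact mem_inf.2 ⟨hgR, g.2⟩
        obtain ⟨j, hj⟩ := IsPGroup.iff_orderOf.1 P.2 ⟨g, hg⟩
        rw [Subgroup.orderOf_mk] at hj
        have hj' : orderOf (g : G) = p ^ j := (Subgroup.orderOf_coe g).trans hj
        have hdc : orderOf (g : G) ∣ c := by
          rw [← CfsgLib.CIT.orderOf_conj_eq x, ← hWc]
          exact Subgroup.orderOf_dvd_natCard _ hx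
        rcases Nat.eq_zero_or_pos j with rfl | hj0
        · exact mem_inf.2 ⟨by
            show (g : G) ∈ R
            rw [orderOf_eq_one_iff.1 (hj'.trans (pow_zero p))]; exact one_mem R, g.2⟩
        · exact absurd ((dvd_pow_self p hj0.ne').trans (hj' ▸ hdc)) hpc
    haveI : Group.IsSolvable (W ⊓ N₀ : Subgroup G) := Group.isSolvable_of_comm fun p q =>
      Subtype.ext (hab p p.2.1 q q.2.1)
    haveI := hRs
    haveI : Group.IsSolvable (R ⊓ N₀ : Subgroup G) :=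
      Group.isSolvable_of_isSolvable_injective (inclusion_injective (inf_le_left : R ⊓ N₀ ≤ R))
    refine hR N₀ inferInstance ?_
    rw [← hsup, sup_comm]
    exact CfsgLib.FrobSystem.isSolvable_sup inferInstance inferInstance
  -- a product of the second kind
  by_cases hγ' : ∃ u ∈ W, u ≠ 1 ∧ cc (y * u) = c
  · obtain ⟨u, hu, hu1, hγc⟩ := hγ'
    obtain ⟨g, hg⟩ := exists_conj hZ h hns hW hγc
    have hg1 : g * (y * u) * g⁻¹ ≠ 1 := fun e0 =>
      ne_one_c hZ h hγc (conj_eq_one_iff.1 e0)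
    refine hN₀R fun ψ hψ h0 => ?_
    have h1 := prod_rule hZ h hy (hWu u hu hu1) ψ
    rw [← hcl ψ (y * u) g, hψu ψ hψ _ hg hg1, hψu ψ hψ u hu hu1] at h1
    exact mul_right_cancel₀ (Int.cast_ne_zero.2 h0) h1
  push Not at hγ'
  have hγ : ∀ u ∈ W, u ≠ 1 → y * u ≠ 1 ∧ cc (y * u) ≠ c := fun u hu hu1 => ⟨fun e0 => by
    have hyu : y ∈ W := by rw [eq_inv_of_mul_eq_one_left e0]; exact inv_mem hu
    exact hyc (hWu y hyu hy1), hγ' u hu hu1⟩
  have hE : (D.θ i₀ : G → ℂ) y = 0 := by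
    by_contra hE0
    have heq : ∀ u ∈ W, u ≠ 1 → ∀ i, (D.θ i : G → ℂ) u = (D.θ i₀ : G → ℂ) u := by
      intro u hu hu1 i
      obtain ⟨hγ1, hγc⟩ := hγ u hu hu1
      have h1 := prod_rule hZ h hy (hWu u hu hu1) (D.θ i)
      have h2 := prod_rule hZ h hy (hWu u hu hu1) (D.θ i₀)
      rw [hθeq _ (hout _ hγ1 hγc) i, hd i, hθeq y hyW i, ← h2] at h1
      exact mul_left_cancel₀ hE0 h1
    set s := (i₀.1 : ↥(normalizer (W : Set G)) → ℂ) ⟨u₀, le_normalizer hu₀W⟩
    have hs : ∀ i : Exc W, (i.1 : ↥(normalizer (W : Set G)) → ℂ) ⟨u₀, le_normalizer hu₀W⟩ = s := by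
      intro i
      have h1 := heq u₀ hu₀W hu₀1 i
      rw [hθu i u₀ hu₀W hu₀1 (le_normalizer hu₀W), hθu i₀ u₀ hu₀W hu₀1 (le_normalizer hu₀W), hconst,
        add_left_inj] at h1
      exact mul_left_cancel₀ hε0 h1
    rw [Finset.sum_congr rfl fun i _ => hs i, Finset.sum_const, Finset.card_univ,
      ← Nat.card_eq_fintype_card, ← hndef, nsmul_eq_mul] at hsum1
    have hint : IsIntegral ℤ s := isCharacter_isIntegral (isCharacter_irr i₀.1) _
    have hsq : s = algebraMap ℚ ℂ (-1 / n) := by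
      have hn0 : (n : ℂ) ≠ 0 := by exact_mod_cast (by omega : n ≠ 0)
      rw [map_div₀, map_neg, map_one, map_natCast, eq_div_iff hn0]
      linear_combination hsum1
    rw [hsq, isIntegral_algebraMap_iff (algebraMap ℚ ℂ).injective,
      IsIntegrallyClosed.isIntegral_iff] at hint
    obtain ⟨z, hz⟩ := hint
    rw [eq_intCast, eq_div_iff (by exact_mod_cast (by omega : n ≠ 0))] at hz
    have hz' : z * (n : ℤ) = -1 := by exact_mod_cast hz
    have hdvd : (n : ℤ) ∣ 1 := ⟨-z, by linear_combination hz'⟩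
    have := Nat.dvd_one.1 (by exact_mod_cast hdvd : n ∣ 1)
    omega
  -- the final count
  obtain ⟨hγ1, hγc⟩ := hγ u₀ hu₀W hu₀1
  set γ := y * u₀
  have hθγ : ∀ i, (D.θ i : G → ℂ) γ = 0 := by
    intro i
    have h1 := prod_rule hZ h hy (hWu u₀ hu₀W hu₀1) (D.θ i)
    rw [hθeq y hyW i, hE, zero_mul, hd] at h1
    exact (mul_eq_zero.1 h1.symm).resolve_left hd0
  have hA1 : ∑ ψ ∈ Sᶜ, Complex.normSq ((ψ : G → ℂ) γ) = (cc γ : ℝ) := by
    have h1 := sum_irr_mul_conj γ γ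
    rw [if_pos (IsConj.refl γ), hsplit] at h1
    simp only [hθγ, zero_mul, Finset.sum_const_zero, add_zero, Complex.mul_conj] at h1
    exact_mod_cast h1
  have hA2 : ∑ ψ ∈ Sᶜ, ((cst ψ : ℝ) ^ 2) ≤ (e : ℝ) := by
    have h1 := sum_irr_mul_conj u₀ u₀
    rw [if_pos (IsConj.refl u₀), hsplit, show Nat.card (centralizer ({u₀} : Set G)) = c from hWu u₀ hu₀W hu₀1,
      Finset.sum_congr (s₁ := Sᶜ) rfl (g := fun ψ => ((cst ψ : ℂ)) ^ 2) fun ψ hψ => by
        rw [hψu ψ (Finset.mem_compl.1 hψ) u₀ hu₀W hu₀1, map_intCast, sq],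
      Finset.sum_congr (s₁ := (Finset.univ : Finset (Exc W))) rfl fun i _ => by
        rw [hθu i u₀ hu₀W hu₀1 (le_normalizer hu₀W), hconst]] at h1
    have hsum1' : ∑ i : Exc W, conj ((i.1 : ↥(normalizer (W : Set G)) → ℂ) ⟨u₀, le_normalizer hu₀W⟩) = -1 := by
      rw [← map_sum, hsum1, map_neg, map_one]
    have h2 : ∀ i : Exc W,
        ((D.ε : ℂ) * (i.1 : ↥(normalizer (W : Set G)) → ℂ) ⟨u₀, le_normalizer hu₀W⟩ + c₀) *
          conj ((D.ε : ℂ) * (i.1 : ↥(normalizer (W : Set G)) → ℂ) ⟨u₀, le_normalizer hu₀W⟩ + c₀) =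
        (i.1 : ↥(normalizer (W : Set G)) → ℂ) ⟨u₀, le_normalizer hu₀W⟩ *
            conj ((i.1 : ↥(normalizer (W : Set G)) → ℂ) ⟨u₀, le_normalizer hu₀W⟩) +
          (D.ε : ℂ) * c₀ * ((i.1 : ↥(normalizer (W : Set G)) → ℂ) ⟨u₀, le_normalizer hu₀W⟩) +
          (D.ε : ℂ) * c₀ * conj ((i.1 : ↥(normalizer (W : Set G)) → ℂ) ⟨u₀, le_normalizer hu₀W⟩) +
          (c₀ : ℂ) * c₀ := by
      intro i
      rw [map_add, map_mul, map_intCast, map_intCast]
      linear_combination ((i.1 : ↥(normalizer (W : Set G)) → ℂ) ⟨u₀, le_normalizer hu₀W⟩ *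
        conj ((i.1 : ↥(normalizer (W : Set G)) → ℂ) ⟨u₀, le_normalizer hu₀W⟩)) * hε
    rw [Finset.sum_congr rfl fun i _ => h2 i] at h1
    simp only [Finset.sum_add_distrib, ← Finset.mul_sum, hsum1, hsum1', hsum2, Finset.sum_const,
      Finset.card_univ, ← Nat.card_eq_fintype_card, ← hndef, nsmul_eq_mul, hWc] at h1
    have h3 : (∑ ψ ∈ Sᶜ, cst ψ ^ 2) = (e : ℤ) + 2 * (D.ε * c₀) - (n : ℤ) * (c₀ * c₀) := by
      have : ((∑ ψ ∈ Sᶜ, cst ψ ^ 2 : ℤ) : ℂ) =
          (((e : ℤ) + 2 * (D.ε * c₀) - (n : ℤ) * (c₀ * c₀) : ℤ) : ℂ) := by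
        push_cast; linear_combination h1
      exact_mod_cast this
    have h4 : (∑ ψ ∈ Sᶜ, cst ψ ^ 2) ≤ (e : ℤ) := by
      have h5 : D.ε * c₀ ≤ c₀ * c₀ := by
        rcases D.sign with hs | hs <;> rw [hs] <;> nlinarith [Int.le_self_sq c₀, Int.le_self_sq (-c₀)]
      have h6 : (2 : ℤ) * (c₀ * c₀) ≤ (n : ℤ) * (c₀ * c₀) :=
        mul_le_mul_of_nonneg_right (by exact_mod_cast hn2) (mul_self_nonneg c₀)
      omega
    have h7 : ((∑ ψ ∈ Sᶜ, cst ψ ^ 2 : ℤ) : ℝ) ≤ ((e : ℤ) : ℝ) := by exact_mod_cast h4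
    push_cast at h7
    exact h7
  have hval : ∀ ψ ∈ Sᶜ, Complex.normSq ((ψ : G → ℂ) γ) ≤ (cst ψ : ℝ) ^ 2 ∧
      (cst ψ ≠ 0 → (cst ψ : ℝ) ^ 2 ≤ Complex.normSq ((ψ : G → ℂ) γ) →
        ((ψ : G → ℂ) 1).re ≤ ‖(ψ : G → ℂ) y‖) := by
    intro ψ hψ
    have h1 := prod_rule hZ h hy (hWu u₀ hu₀W hu₀1) ψ
    rw [hψu ψ (Finset.mem_compl.1 hψ) u₀ hu₀W hu₀1] at h1
    have hle : ‖(ψ : G → ℂ) y‖ ≤ ((ψ : G → ℂ) 1).re := by
      obtain ⟨ψ', n', ρ, hρ, rfl⟩ := ψ
      show ‖ρ.character y‖ ≤ (ρ.character 1).re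
      rw [Representation.char_one, Complex.natCast_re]
      exact norm_le_degree ρ y
    obtain ⟨m, hm, hmd'⟩ := isIrrCharacter_degree ψ.2
    rw [hmd'] at h1 hle ⊢
    rw [Complex.natCast_re] at hle ⊢
    have hm0 : (0 : ℝ) < (m : ℝ) := by
      refine Nat.cast_pos.2 (Nat.pos_of_ne_zero fun e0 => irr_one_ne_zero ψ ?_)
      rw [hmd', e0, Nat.cast_zero]
    have h2 : ‖(ψ : G → ℂ) y‖ ^ 2 * (cst ψ : ℝ) ^ 2 = (m : ℝ) ^ 2 * Complex.normSq ((ψ : G → ℂ) γ) := by
      have := congrArg Complex.normSq h1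
      rw [map_mul, map_mul, Complex.normSq_natCast, Complex.normSq_intCast] at this
      rw [← Complex.normSq_eq_norm_sq, sq, sq]; exact this
    refine ⟨?_, fun h0 h3 => ?_⟩
    · refine le_of_mul_le_mul_left ?_ (pow_pos hm0 2)
      rw [← h2]
      exact mul_le_mul_of_nonneg_right (pow_le_pow_left₀ (norm_nonneg _) hle 2) (sq_nonneg _)
    · have hc2 : (0 : ℝ) < (cst ψ : ℝ) ^ 2 := by
        have : (cst ψ : ℝ) ≠ 0 := Int.cast_ne_zero.2 h0
        positivity
      have h4 : (m : ℝ) ^ 2 ≤ ‖(ψ : G → ℂ) y‖ ^ 2 := by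
        refine le_of_mul_le_mul_right ?_ hc2
        rw [h2]
        exact mul_le_mul_of_nonneg_left h3 (sq_nonneg _)
      exact (pow_le_pow_iff_left₀ hm0.le (norm_nonneg _) two_ne_zero).1 h4
  have hle : a ≤ cc γ := by
    rcases h.vals γ hγ1 with e0 | e0 | e0
    · exact e0.ge
    · rw [e0]; exact h.lt.le
    · exact absurd e0 hγc
  have heq : ∀ ψ ∈ Sᶜ, Complex.normSq ((ψ : G → ℂ) γ) = (cst ψ : ℝ) ^ 2 := by
    intro ψ hψ
    refine le_antisymm (hval ψ hψ).1 (not_lt.1 fun hlt => ?_)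
    have h1 := Finset.sum_lt_sum (fun ψ hψ => (hval ψ hψ).1) ⟨ψ, hψ, hlt⟩
    rw [hA1] at h1
    have h2 := h1.trans_le hA2
    have : cc γ < e := by exact_mod_cast h2
    omega
  have hcomm : ∀ g : G, ⁅g, y⁆ ∈ R := fun g => hN₀R fun ψ hψ h0 =>
    irr_commutator_of_norm ψ ((hval ψ (Finset.mem_compl.2 hψ)).2 h0 (heq ψ (Finset.mem_compl.2 hψ)).ge) g
  haveI : (R ⊔ zpowers y).Normal := ⟨fun x hx g => by
    obtain ⟨r, hr, z, hz, rfl⟩ := mem_sup_of_normal_left.1 hx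
    obtain ⟨j, rfl⟩ := mem_zpowers_iff.1 hz
    rw [show g * (r * y ^ j) * g⁻¹ = g * r * g⁻¹ * (g * y ^ j * g⁻¹) by group, ← conj_zpow]
    refine mul_mem (mem_sup_left (Normal.conj_mem inferInstance r hr g)) (zpow_mem ?_ j)
    rw [show g * y * g⁻¹ = ⁅g, y⁆ * y by rw [commutatorElement_def]; group]
    exact mul_mem (mem_sup_left (hcomm g)) (mem_sup_right (mem_zpowers y))⟩
  exact hR (R ⊔ zpowers y) inferInstance (CfsgLib.FrobSystem.isSolvable_sup hRs
    (Group.isSolvable_of_comm fun p q => mul_comm' p q)) (mem_sup_right (mem_zpowers y))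

end CfsgLib.CIT.ThreeGen
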