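import Cfsg.Agent.Lib.CIT.ThreeGen.CaseIEnd
import Cfsg.Agent.Lib.CIT.ThreeSizes.Main
import Cfsg.Agent.Lib.CIT.Structure
import Cfsg.Agent.Lib.Char.SylSeventeen.Recog

/-!
# Trivial centre and three centralizer orders
-/

set_option autoImplicit false
set_option linter.unusedSectionVars false
set_option linter.style.haveILetI false

namespace CfsgLib.CIT.ThreeGen

open Subgroup
open CfsgLib.CIT.ThreeSizes (cc IsFGroup cc_le eq_of_le_of_cc mem_C self_mem NoGap noGap_of_fGroup isCN_of_fGroup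
  not_noGap_psl_two psl_of_three)

universe u

variable {G : Type u} [Group G] [Finite G]

/-- Three centralizer orders, none properly contained. -/
theorem psl_of_fGroup (hns : ¬ Group.IsSolvable G) (hF : IsFGroup G)
    (h3 : Set.ncard {v : ℕ | ∃ x : G, x ≠ 1 ∧ cc x = v} = 3) :
    ∃ a : ℕ, 0 < a ∧ Nonempty (G ≃* Matrix.ProjectiveSpecialLinearGroup (Fin 2) (GaloisField 2 a)) := by
  haveI : Fact (Nat.Prime 2) := ⟨Nat.prime_two⟩
  rcases CfsgLib.CIT.cn_structure hns (isCN_of_fGroup hF) with ⟨hs, hna⟩ | ⟨L, -, -, F, iF, iF', h9, ⟨e⟩⟩ |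
      ⟨N, hN, hN1, hN2, hc, -⟩
  · haveI := hs
    obtain ⟨n, F, iF, iF', hn, hFc, ⟨e⟩⟩ := psl_of_three hna h3
    letI := Fintype.ofFinite (GaloisField 2 n)
    have hcard : Fintype.card F = Fintype.card (GaloisField 2 n) := by
      rw [hFc, ← Nat.card_eq_fintype_card, GaloisField.card 2 n (by omega)]
    obtain ⟨e'⟩ := CfsgLib.Char.SylSeventeen.pslEquiv_of_card_eq (K := F) (F := GaloisField 2 n) hcard
    exact ⟨n, by omega, ⟨e.trans e'⟩⟩
  · exfalso
    have hgap : NoGap L := fun x g hx hg => Subtype.ext (noGap_of_fGroup hF (x : G) (g : G)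
      (fun e0 => hx (Subtype.ext e0)) (congrArg Subtype.val hg))
    exact not_noGap_psl_two (by rw [h9]; norm_num) (hgap.of_mulEquiv e)
  · exfalso
    haveI := hN
    obtain ⟨T⟩ : Nonempty (Sylow 2 G) := inferInstance
    have hNle : ∀ S : Sylow 2 G, N ≤ S := fun S =>
      (CfsgLib.Coprime.le_pCore hN2).trans (CfsgLib.Coprime.pCore_le_sylow S)
    have hTC : (T : Subgroup G) ≤ centralizer (N : Set G) := by
      intro y hy
      rcases eq_or_ne y 1 with rfl | hy1
      · exact one_mem _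
      obtain ⟨S, hS⟩ := (hc.isPGroup_centralizer_mem T.2 hy hy1).exists_le_sylow
      haveI : Nontrivial (S : Subgroup G) := ⟨⟨⟨y, hS (self_mem y)⟩, 1, fun e => hy1 (congrArg Subtype.val e)⟩⟩
      haveI := S.2.center_nontrivial
      obtain ⟨z, hz⟩ := exists_ne (1 : center (S : Subgroup G))
      have hz1 : ((z : (S : Subgroup G)) : G) ≠ 1 := fun e => hz (Subtype.ext (Subtype.ext e))
      have hSz : (S : Subgroup G) ≤ centralizer ({((z : (S : Subgroup G)) : G)} : Set G) := fun g hg =>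
        mem_C.2 (congrArg Subtype.val (mem_center_iff.1 z.2 ⟨g, hg⟩))
      have he := hF y _ hy1 hz1 (hS.trans hSz)
      refine mem_centralizer_iff.2 fun n hn => ?_
      have hny : n ∈ centralizer ({y} : Set G) := he ▸ hSz (hNle S hn)
      exact mem_C.1 hny
    obtain ⟨⟨n, hn⟩, hn1⟩ := ne_bot_iff_exists_ne_one.1 hN1
    have hp : IsPGroup 2 (centralizer (N : Set G)) :=
      (hc.isPGroup_centralizer_mem hN2 hn fun e => hn1 (Subtype.ext e)).to_le
        (centralizer_le (Set.singleton_subset_iff.2 hn))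
    have heq : centralizer (N : Set G) = T := T.3 hp hTC
    have hnorm : normalizer ((T : Subgroup G) : Set G) = ⊤ :=
      normalizer_eq_top_iff.2 (heq ▸ (inferInstance : (centralizer (N : Set G)).Normal))
    haveI : Group.IsSolvable (⊤ : Subgroup G) := hnorm ▸ Cfsg.Agent.S4235.isSolvable_normalizer T
    exact hns (Group.isSolvable_of_surjective (f := (Subgroup.topEquiv : (⊤ : Subgroup G) ≃* G).toMonoidHom)
      (Subgroup.topEquiv : (⊤ : Subgroup G) ≃* G).surjective)

/-- Trivial centre and three centralizer orders. -/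
theorem psl_of_three_values (hZ : center G = ⊥) (hns : ¬ Group.IsSolvable G)
    (h3 : Set.ncard {v : ℕ | ∃ x : G, x ≠ 1 ∧ cc x = v} = 3) :
    ∃ a : ℕ, 0 < a ∧ Nonempty (G ≃* Matrix.ProjectiveSpecialLinearGroup (Fin 2) (GaloisField 2 a)) := by
  classical
  refine psl_of_fGroup hns (fun x y hx hy hle => ?_) h3
  by_contra hne
  have hlt : cc x < cc y := lt_of_le_of_ne (Nat.le_of_dvd Nat.card_pos (cc_le hle))
    fun e => hne (eq_of_le_of_cc hle e)
  set s := {v : ℕ | ∃ x : G, x ≠ 1 ∧ cc x = v}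
  have hsub : ({cc x, cc y} : Set ℕ) ⊆ s := by
    rintro v (rfl | rfl)
    · exact ⟨x, hx, rfl⟩
    · exact ⟨y, hy, rfl⟩
  have h1 := Set.ncard_diff hsub (Set.toFinite _)
  rw [h3, Set.ncard_pair hlt.ne] at h1
  obtain ⟨c, hc⟩ := Set.ncard_eq_one.1 h1
  have hcs : c ∈ s \ {cc x, cc y} := hc ▸ Set.mem_singleton c
  refine no_chain hZ (a := cc x) (b := cc y) (c := c)
    ⟨cc_le hle, hlt, fun v hv => ?_, ⟨y, hy, rfl⟩, hcs.1⟩ hns
  by_cases hm : cc v ∈ ({cc x, cc y} : Set ℕ)
  · exact hm.imp id fun h => Or.inl h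
  · exact Or.inr (Or.inr (Set.mem_singleton_iff.1 (hc ▸ (⟨⟨v, hv, rfl⟩, hm⟩ : cc v ∈ s \ {cc x, cc y}))))

end CfsgLib.CIT.ThreeGen
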