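import Cfsg.Agent.Lib.CIT.ThreeSizes.Basic
import Cfsg.Agent.Lib.PGroup.Kazarin
import Cfsg.Agent.Lib.PGroup.ThreeSizes.NoContainment
import Cfsg.Agent.Lib.FrobSystem.Basic
import Cfsg.Agent.Lib.Fusion.Transfer
import Cfsg.Agent.Lib.PGroup.JordanCover
import Cfsg.Agent.S4134

/-!
# Solvability criteria from class sizes
-/

set_option autoImplicit false
set_option linter.unusedSectionVars false
set_option linter.style.haveILetI false

namespace CfsgLib.CIT.ThreeGen

open Subgroup CfsgLib.CIT.ThreeSizes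

universe u

variable {G : Type u} [Group G] [Finite G]

/-- There is a largest solvable normal subgroup. -/
theorem exists_rad : ∃ R : Subgroup G, R.Normal ∧ Group.IsSolvable R ∧
    ∀ N : Subgroup G, N.Normal → Group.IsSolvable N → N ≤ R := by
  obtain ⟨R, hR, hmax⟩ := Set.exists_max_image {N : Subgroup G | N.Normal ∧ Group.IsSolvable N}
    (fun N => Nat.card N) (Set.toFinite _) ⟨⊥, inferInstance, inferInstance⟩
  refine ⟨R, hR.1, hR.2, fun N hN hNs => ?_⟩
  haveI := hR.1
  haveI := hN
  have h := hmax (R ⊔ N) ⟨inferInstance, CfsgLib.FrobSystem.isSolvable_sup hR.2 hNs⟩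
  rw [eq_of_le_of_card_ge (le_sup_left : R ≤ R ⊔ N) h]
  exact le_sup_right

/-- An element with class size a prime power lies in the radical. -/
theorem mem_rad_of_class_prime_pow {R : Subgroup G}
    (hR : ∀ N : Subgroup G, N.Normal → Group.IsSolvable N → N ≤ R) {x : G} {p k : ℕ} (hp : p.Prime)
    (hx : (centralizer ({x} : Set G)).index = p ^ k) : x ∈ R :=
  hR _ normalClosure_normal (CfsgLib.PGroup.isSolvable_normalClosure_of_class_prime_pow x hp hx)
    (subset_normalClosure (Set.mem_singleton x))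

theorem isSolvable_of_top_le {R : Subgroup G} (hs : Group.IsSolvable R) (h : ∀ x : G, x ∈ R) :
    Group.IsSolvable G :=
  Group.isSolvable_of_surjective (f := R.subtype) fun x => ⟨⟨x, h x⟩, rfl⟩

/-- One class size other than `1`. -/
theorem solvable_of_one_value {n : ℕ}
    (h : ∀ x : G, (centralizer ({x} : Set G)).index = 1 ∨ (centralizer ({x} : Set G)).index = n) :
    Group.IsSolvable G := by
  by_cases hex : ∃ x : G, (centralizer ({x} : Set G)).index = n ∧ n ≠ 1
  · obtain ⟨x, hx, hn⟩ := hex
    have hn0 : n ≠ 0 := hx ▸ index_ne_zero_of_finite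
    obtain ⟨p, hp, a, ha, -⟩ := Cfsg.Agent.S4134.result n (by omega) h ⟨x, hx⟩
    obtain ⟨R, -, hRs, hR⟩ := exists_rad (G := G)
    refine isSolvable_of_top_le hRs fun y => ?_
    rcases h y with hy | hy
    · exact mem_rad_of_class_prime_pow hR hp.out (k := 0) (by rw [hy, pow_zero])
    · exact mem_rad_of_class_prime_pow hR hp.out (hy.trans ha)
  · push Not at hex
    obtain ⟨R, -, hRs, hR⟩ := exists_rad (G := G)
    refine isSolvable_of_top_le hRs fun y => mem_rad_of_class_prime_pow hR Nat.prime_two (k := 0) ?_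
    rw [pow_zero]
    rcases h y with hy | hy
    · exact hy
    · exact hy.trans (hex y hy)

/-- Two class sizes other than `1`. -/
theorem solvable_of_two_values {u v : ℕ}
    (h : ∀ x : G, (centralizer ({x} : Set G)).index = 1 ∨ (centralizer ({x} : Set G)).index = u ∨
      (centralizer ({x} : Set G)).index = v) : Group.IsSolvable G := by
  rcases lt_trichotomy u v with huv | rfl | huv
  · by_cases hu : ∃ x : G, (centralizer ({x} : Set G)).index = u ∧ 1 < u
    · by_cases hv : ∃ x : G, (centralizer ({x} : Set G)).index = v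
      · obtain ⟨x, hx, hu1⟩ := hu
        exact CfsgLib.ThreeSizes.isSolvable (n₁ := v) (n₂ := u) ⟨huv, hu1, h⟩ hv ⟨x, hx⟩
      · exact solvable_of_one_value fun x => (h x).imp id fun h' => h'.resolve_right fun e => hv ⟨x, e⟩
    · exact solvable_of_one_value (n := v) fun x => by
        rcases h x with e | e | e
        · exact Or.inl e
        · refine Or.inl ?_
          have h0 : (centralizer ({x} : Set G)).index ≠ 0 := index_ne_zero_of_finite
          by_contra h1
          exact hu ⟨x, e, by omega⟩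
        · exact Or.inr e
  · exact solvable_of_one_value fun x => (h x).imp id fun h' => h'.elim id id
  · by_cases hv : ∃ x : G, (centralizer ({x} : Set G)).index = v ∧ 1 < v
    · by_cases hu : ∃ x : G, (centralizer ({x} : Set G)).index = u
      · obtain ⟨x, hx, hv1⟩ := hv
        exact CfsgLib.ThreeSizes.isSolvable (n₁ := u) (n₂ := v)
          ⟨huv, hv1, fun g => (h g).imp id Or.symm⟩ hu ⟨x, hx⟩
      · exact solvable_of_one_value fun x => (h x).imp id fun h' => h'.resolve_left fun e => hu ⟨x, e⟩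
    · exact solvable_of_one_value (n := u) fun x => by
        rcases h x with e | e | e
        · exact Or.inl e
        · exact Or.inr e
        · refine Or.inl ?_
          have h0 : (centralizer ({x} : Set G)).index ≠ 0 := index_ne_zero_of_finite
          by_contra h1
          exact hv ⟨x, e, by omega⟩

/-- A subgroup in which centralizers have two possible orders besides its own. -/
theorem solvable_of_two_orders {K : Subgroup G} {v w : ℕ}
    (hK : ∀ x ∈ K, x ≠ 1 → Nat.card (centralizer ({x} : Set G) ⊓ K : Subgroup G) = v ∨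
      Nat.card (centralizer ({x} : Set G) ⊓ K : Subgroup G) = w ∨
      Nat.card (centralizer ({x} : Set G) ⊓ K : Subgroup G) = Nat.card K) :
    Group.IsSolvable K := by
  refine solvable_of_two_values (u := Nat.card K / v) (v := Nat.card K / w) fun x => ?_
  rcases eq_or_ne (x : G) 1 with hx | hx
  · refine Or.inl (index_eq_one.2 (eq_top_iff.2 fun g _ => mem_centralizer_singleton_iff.2 ?_))
    rw [show x = 1 from Subtype.ext hx, mul_one, one_mul]
  have he : centralizer ({x} : Set K) = (centralizer ({(x : G)} : Set G) ⊓ K).subgroupOf K := by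
    ext y
    rw [mem_subgroupOf, mem_inf, mem_centralizer_singleton_iff, mem_centralizer_singleton_iff, Subtype.ext_iff,
      coe_mul, coe_mul]
    exact ⟨fun h => ⟨h, y.2⟩, And.left⟩
  have h1 := card_mul_index (centralizer ({x} : Set K))
  rw [show Nat.card (centralizer ({x} : Set K)) =
      Nat.card (centralizer ({(x : G)} : Set G) ⊓ K : Subgroup G) by
    rw [he, Nat.card_congr (subgroupOfEquivOfLe inf_le_right).toEquiv]] at h1
  rcases hK x x.2 hx with e | e | e <;> rw [e] at h1
  · exact Or.inr (Or.inl (Nat.div_eq_of_eq_mul_left (e ▸ Nat.card_pos) (by rw [← h1]; ring)).symm)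
  · exact Or.inr (Or.inr (Nat.div_eq_of_eq_mul_left (e ▸ Nat.card_pos) (by rw [← h1]; ring)).symm)
  · exact Or.inl (Nat.eq_of_mul_eq_mul_left Nat.card_pos (h1.trans (mul_one _).symm))

/-- An element of prime power order outside a normal subgroup whose order the prime does not divide. -/
theorem not_dvd_card_of_mem {N : Subgroup G} {u : G} {p i : ℕ} (hp : p.Prime)
    (hu : u ∈ N) (hu1 : u ≠ 1) (ho : orderOf u = p ^ i) : p ∣ Nat.card N := by
  have hi : i ≠ 0 := fun e => hu1 (orderOf_eq_one_iff.1 (by rw [ho, e, pow_zero]))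
  exact ((dvd_pow_self p hi).trans (ho ▸ dvd_rfl)).trans (orderOf_dvd_natCard _ hu)

/-- The intersection of normal `p`-complements over a set of primes. -/
theorem exists_inter_compl (S : Finset ℕ) (hS : ∀ p ∈ S, p.Prime ∧ Cfsg.HasNormalPComplement p G) :
    ∃ N : Subgroup G, N.Normal ∧ (∀ p ∈ S, ¬ p ∣ Nat.card N) ∧
      (∀ q : ℕ, q.Prime → q ∣ N.index → q ∈ S) ∧ (Group.IsSolvable N → Group.IsSolvable G) := by
  classical
  suffices h : ∃ (N : Subgroup G) (k : ℕ), N.Normal ∧ (∀ p ∈ S, ¬ p ∣ Nat.card N) ∧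
      (∀ q : ℕ, q.Prime → q ∣ N.index → q ∈ S) ∧ derivedSeries G k ≤ N by
    obtain ⟨N, k, hN, h1, h2, h3⟩ := h
    haveI := hN
    refine ⟨N, hN, h1, h2, fun hs => ?_⟩
    haveI := hs
    haveI : Group.IsSolvable (G ⧸ N) := (Group.isSolvable_def _).2 ⟨k, by
      rw [← map_derivedSeries_eq (QuotientGroup.mk'_surjective N) k, Subgroup.map_eq_bot_iff,
        QuotientGroup.ker_mk']
      exact h3⟩
    exact Group.isSolvable_of_ker_le_range N.subtype (QuotientGroup.mk' N) (by simp)
  induction S using Finset.induction with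
  | empty =>
    refine ⟨⊤, 0, inferInstance, fun p hp => absurd hp (Finset.notMem_empty p), fun q hq hd => ?_, le_top⟩
    rw [index_top] at hd
    exact absurd (Nat.dvd_one.1 hd) hq.ne_one
  | insert p S hpS ih =>
    obtain ⟨N, k, hN, h1, h2, h3⟩ := ih fun q hq => hS q (Finset.mem_insert_of_mem hq)
    obtain ⟨hp, P, K, hK, hc⟩ := hS p (Finset.mem_insert_self p S)
    haveI : Fact p.Prime := ⟨hp⟩
    haveI := hN
    haveI := hK
    have hKi : K.index = Nat.card (P : Subgroup G) := hc.symm.index_eq_card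
    haveI : Group.IsSolvable (G ⧸ K) := by
      have hp' : IsPGroup p (G ⧸ K) := by
        obtain ⟨n, hn⟩ := P.2.exists_card_eq
        exact IsPGroup.of_card (n := n) (by rw [← hn, ← hKi]; rfl)
      haveI := hp'.isNilpotent
      infer_instance
    obtain ⟨l, hl⟩ := (Group.isSolvable_def (G ⧸ K)).1 inferInstance
    rw [← map_derivedSeries_eq (QuotientGroup.mk'_surjective K) l, Subgroup.map_eq_bot_iff,
      QuotientGroup.ker_mk'] at hl
    refine ⟨N ⊓ K, max k l, inferInstance, fun q hq hd => ?_, fun q hq hd => ?_,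
      le_inf ((derivedSeries_antitone G (le_max_left k l)).trans h3)
        ((derivedSeries_antitone G (le_max_right k l)).trans hl)⟩
    · rcases Finset.mem_insert.1 hq with rfl | hq
      · have hKq : ¬ q ∣ Nat.card K := by
          rw [← hc.index_eq_card]
          exact P.not_dvd_index
        exact hKq (hd.trans (card_dvd_of_le inf_le_right))
      · exact h1 q hq (hd.trans (card_dvd_of_le inf_le_left))
    · have h' : (N ⊓ K).index ∣ N.index * K.index := by
        rw [← relIndex_mul_index (inf_le_left : N ⊓ K ≤ N), inf_comm, inf_relIndex_right, mul_comm]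
        exact Nat.mul_dvd_mul_left _ (relIndex_dvd_index_of_normal K N)
      rcases hq.dvd_mul.1 (hd.trans h') with hd' | hd'
      · exact Finset.mem_insert_of_mem (h2 q hq hd')
      · obtain ⟨n, hn⟩ := P.2.exists_card_eq
        rw [hKi, hn] at hd'
        rw [(Nat.prime_dvd_prime_iff_eq hq hp).1 (hq.dvd_of_dvd_pow hd')]
        exact Finset.mem_insert_self _ _

/-- Every prime other than `r` has a normal complement, or its elements have classes of sizes built
from `r` and such primes. -/
theorem solvable_of_compl {r : ℕ} (hr : r.Prime)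
    (h : ∀ p : ℕ, p.Prime → p ≠ r → p ∣ Nat.card G → Cfsg.HasNormalPComplement p G ∨
      ∀ u : G, u ≠ 1 → (∃ i : ℕ, orderOf u = p ^ i) → ∀ q : ℕ, q.Prime →
        q ∣ (centralizer ({u} : Set G)).index → q = r ∨ Cfsg.HasNormalPComplement q G) :
    Group.IsSolvable G := by
  classical
  obtain ⟨N, hN, h1, -, h3⟩ := exists_inter_compl (G := G)
    ((Nat.card G).primeFactors.filter fun p => p ≠ r ∧ Cfsg.HasNormalPComplement p G) fun p hp => by
      rw [Finset.mem_filter, Nat.mem_primeFactors] at hp
      exact ⟨hp.1.1, hp.2.2⟩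
  refine h3 ?_
  haveI := hN
  have hmem : ∀ q : ℕ, q.Prime → q ∣ Nat.card N → q = r ∨ ¬ Cfsg.HasNormalPComplement q G := by
    intro q hq hd
    by_contra hh
    push Not at hh
    refine h1 q ?_ hd
    rw [Finset.mem_filter, Nat.mem_primeFactors]
    exact ⟨⟨hq, hd.trans (card_subgroup_dvd_card N), Nat.card_pos.ne'⟩, hh.1, hh.2⟩
  obtain ⟨R, hRn, hRs, hR⟩ := exists_rad (G := N)
  haveI := hRn
  -- the elements of order prime to `r` lie in the radical of `N`
  have hu : ∀ (p : ℕ), p.Prime → p ≠ r → ∀ u : N, (∃ i : ℕ, orderOf u = p ^ i) → u ∈ R := by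
    rintro p hp hpr u ⟨i, hi⟩
    rcases eq_or_ne u 1 with rfl | hu1
    · exact one_mem R
    have hi' : orderOf (u : G) = p ^ i := (Subgroup.orderOf_coe u).trans hi
    have hu1' : (u : G) ≠ 1 := fun e => hu1 (Subtype.ext e)
    have hpN := not_dvd_card_of_mem hp u.2 hu1' hi'
    have hidx : ∀ q : ℕ, q.Prime → q ∣ (centralizer ({u} : Set N)).index → q = r := by
      intro q hq hd
      rcases hmem q hq (hd.trans (index_dvd_card _)) with e | e
      · exact e
      refine ((((h p hp hpr (hpN.trans (card_subgroup_dvd_card N))).resolve_left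
        ((hmem p hp hpN).resolve_left hpr))) (u : G) hu1' ⟨i, hi'⟩ q hq
        (hd.trans (CfsgLib.PGroup.centralizer_index_subgroup_dvd N u))).resolve_right e
    exact mem_rad_of_class_prime_pow hR hr
      (Nat.eq_prime_pow_of_unique_prime_dvd index_ne_zero_of_finite fun {q} hq hd => hidx q hq hd)
  haveI : Fact r.Prime := ⟨hr⟩
  have hidx : ∀ q : ℕ, q.Prime → q ∣ R.index → q = r := by
    intro q hq hd
    by_contra hqr
    haveI : Fact q.Prime := ⟨hq⟩
    obtain ⟨P⟩ : Nonempty (Sylow q N) := inferInstance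
    refine P.not_dvd_index (hd.trans (index_dvd_of_le fun x hx => hu q hq hqr x ?_))
    obtain ⟨i, hi⟩ := IsPGroup.iff_orderOf.1 P.2 ⟨x, hx⟩
    exact ⟨i, (Subgroup.orderOf_mk x hx).symm.trans hi⟩
  haveI : Group.IsSolvable (N ⧸ R) := by
    have hp' : IsPGroup r (N ⧸ R) :=
      IsPGroup.of_card (n := R.index.primeFactorsList.length)
        (Nat.eq_prime_pow_of_unique_prime_dvd index_ne_zero_of_finite fun {q} hq hd => hidx q hq hd)
    haveI := hp'.isNilpotent
    infer_instance
  haveI := hRs
  exact Group.isSolvable_of_ker_le_range R.subtype (QuotientGroup.mk' R) (by simp)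

/-- A product of a solvable normal subgroup with a solvable subgroup. -/
theorem solvable_of_sup_eq_top {H N : Subgroup G} [N.Normal] (hN : Group.IsSolvable N)
    (hH : Group.IsSolvable H) (h : H ⊔ N = ⊤) : Group.IsSolvable G := by
  have hs := CfsgLib.FrobSystem.isSolvable_sup hN hH
  exact isSolvable_of_top_le hs fun x => by rw [sup_comm, h]; exact mem_top x

/-- The normalizer of a cyclic subgroup is solvable with the centralizer. -/
theorem solvable_normalizer_zpowers {z : G} (hC : Group.IsSolvable (centralizer ({z} : Set G))) :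
    Group.IsSolvable (normalizer ((zpowers z : Subgroup G) : Set G)) := by
  set N := normalizer ((zpowers z : Subgroup G) : Set G)
  refine CfsgLib.ThreeSizes.solvable_of_commutator ?_
  have hle : commutator N ≤ (centralizer ({z} : Set G)).subgroupOf N := by
    rw [_root_.commutator_def, Subgroup.commutator_le]
    intro g _ g' _
    obtain ⟨i, hi⟩ := mem_zpowers_iff.1 ((mem_normalizer_iff.1 (inv_mem g.2) z).1 (mem_zpowers z))
    obtain ⟨j, hj⟩ := mem_zpowers_iff.1 ((mem_normalizer_iff.1 (inv_mem g'.2) z).1 (mem_zpowers z))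
    have hi2 : ∀ k : ℤ, (g : G)⁻¹ * z ^ k * g = (z ^ i) ^ k := fun k => by
      rw [hi, conj_zpow, inv_inv]
    have hj2 : ∀ k : ℤ, (g' : G)⁻¹ * z ^ k * g' = (z ^ j) ^ k := fun k => by
      rw [hj, conj_zpow, inv_inv]
    have e : ((g : G)⁻¹ * (g' : G)⁻¹) * z * ((g : G)⁻¹ * (g' : G)⁻¹)⁻¹ =
        ((g' : G)⁻¹ * (g : G)⁻¹) * z * ((g' : G)⁻¹ * (g : G)⁻¹)⁻¹ := by
      calc _ = (g : G)⁻¹ * ((g' : G)⁻¹ * z ^ (1 : ℤ) * g') * g := by group
        _ = (z ^ i) ^ j := by rw [hj2, zpow_one, hi2]
        _ = (z ^ j) ^ i := by rw [← zpow_mul, ← zpow_mul, mul_comm]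
        _ = (g' : G)⁻¹ * ((g : G)⁻¹ * z ^ (1 : ℤ) * g) * g' := by rw [hi2, zpow_one, hj2]
        _ = _ := by group
    refine mem_subgroupOf.2 (mem_centralizer_singleton_iff.2 ?_)
    rw [commutatorElement_def, coe_mul, coe_mul, coe_mul, coe_inv, coe_inv]
    calc (g : G) * g' * (g : G)⁻¹ * (g' : G)⁻¹ * z
        = ((g' : G)⁻¹ * (g : G)⁻¹)⁻¹ * (((g : G)⁻¹ * (g' : G)⁻¹) * z * ((g : G)⁻¹ * (g' : G)⁻¹)⁻¹) *
            ((g : G)⁻¹ * (g' : G)⁻¹) := by group
      _ = _ := by rw [e]; group
  haveI := hC
  haveI : Group.IsSolvable ((centralizer ({z} : Set G)).subgroupOf N) :=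
    Group.isSolvable_of_isSolvable_injective
      (f := ((N.subtype).comp ((centralizer ({z} : Set G)).subgroupOf N).subtype).codRestrict
        (centralizer ({z} : Set G)) fun x => x.2)
      fun a b hab => Subtype.ext (Subtype.ext (congrArg Subtype.val hab :))
  exact Group.isSolvable_of_isSolvable_injective (f := inclusion hle) (inclusion_injective hle)

/-- An abelian group of exponent `s` acting fixed-point-freely is cyclic. -/
theorem mem_zpowers_of_fpf {V : Subgroup G} [V.Normal] (hV : V ≠ ⊥) {s : ℕ} (hs : s.Prime)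
    (hfix : ∀ g : G, orderOf g = s → V ⊓ centralizer {g} = ⊥) (A : Subgroup G)
    (hab : ∀ x ∈ A, ∀ y ∈ A, x * y = y * x) (hexp : ∀ x ∈ A, x ^ s = 1) {z : G} (hz : z ∈ A) (hz1 : z ≠ 1) :
    A = zpowers z := by
  haveI : IsMulCommutative A := ⟨⟨fun x y => Subtype.ext (hab x x.2 y y.2)⟩⟩
  haveI : Fact s.Prime := ⟨hs⟩
  haveI : IsCyclic A := CfsgLib.Coprime.IsFpfOn.isCyclic (K := V)
    (fun g _ => by rw [normalizer_eq_top_iff.2 inferInstance]; trivial)
    (fun g hg hg1 => hfix g (orderOf_eq_prime (hexp g hg) hg1)) hV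
  obtain ⟨⟨g, hg⟩, hgen⟩ := IsCyclic.exists_generator (α := A)
  refine (eq_of_le_of_card_ge (zpowers_le.2 hz) ?_).symm
  rw [Nat.card_zpowers, orderOf_eq_prime (hexp z hz) hz1,
    ← orderOf_eq_card_of_forall_mem_zpowers hgen, Subgroup.orderOf_mk]
  exact Nat.le_of_dvd hs.pos (orderOf_dvd_of_pow_eq_one (hexp g hg))

theorem index_eq_of_cc {v y : G} (h : cc v = cc y) :
    (centralizer ({v} : Set G)).index = (centralizer ({y} : Set G)).index := by
  have h1 := card_mul_index (centralizer ({v} : Set G))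
  rw [← card_mul_index (centralizer ({y} : Set G)), show Nat.card (centralizer ({v} : Set G)) = cc y from h] at h1
  exact Nat.eq_of_mul_eq_mul_left Nat.card_pos h1

/-- A centralizer containing the whole `p`-part has index prime to `p`. -/
theorem not_dvd_index_of_full {z : G} {p : ℕ} (hp : p.Prime)
    (h : ∀ k : ℕ, p ^ k ∣ Nat.card G → p ^ k ∣ cc z) : ¬ p ∣ (centralizer ({z} : Set G)).index := by
  intro hd
  obtain ⟨e, m, hm, he⟩ := Nat.exists_eq_pow_mul_and_not_dvd (n := cc z) Nat.card_pos.ne' p hp.ne_one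
  obtain ⟨n, hn⟩ := hd
  have h1 := h (e + 1) ⟨m * n, by
    rw [← card_mul_index (centralizer ({z} : Set G)), hn, show Nat.card (centralizer ({z} : Set G)) = cc z from rfl,
      he, pow_succ]; ring⟩
  rw [he, pow_succ] at h1
  exact hm ((Nat.mul_dvd_mul_iff_left (pow_pos hp.pos e)).1 h1)

/-- A subgroup whose index is prime to `p` contains the whole `p`-part. -/
theorem full_of_not_dvd_index {H : Subgroup G} {p k : ℕ} (hp : p.Prime) (hd : ¬ p ∣ H.index)
    (hk : p ^ k ∣ Nat.card G) : p ^ k ∣ Nat.card H := by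
  rw [← card_mul_index H] at hk
  exact (Nat.Coprime.pow_left k (hp.coprime_iff_not_dvd.2 hd)).dvd_of_dvd_mul_right hk

/-- The translates of a class: the stabilizer contains all commutators. -/
theorem class_translate {a b : G}
    (hco : ((centralizer ({a} : Set G)).index).Coprime (centralizer ({b} : Set G)).index)
    (heq : (centralizer ({a * b} : Set G)).index = (centralizer ({b} : Set G)).index) (g : G) :
    ∀ x : G, IsConj b x → IsConj b (a⁻¹ * (g * a * g⁻¹) * x) := by
  classical
  have hconj : ∀ v : G, Nat.card {y : G // IsConj v y} = (centralizer ({v} : Set G)).index :=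
    fun v => CfsgLib.Char.card_isConj v
  have hsub : ∀ x : G, IsConj b x → IsConj (a * b) (a * x) := by
    intro x hx
    obtain ⟨t, rfl⟩ := isConj_iff.1 hx
    obtain ⟨u, hu, v, hv, rfl⟩ := CfsgLib.ClassGraph.exists_mul_of_coprime (x := a) (y := b) hco t
    refine isConj_iff.2 ⟨u, ?_⟩
    have hu' := mem_centralizer_singleton_iff.1 hu
    have hv' := mul_inv_eq_iff_eq_mul.2 (mem_centralizer_singleton_iff.1 hv)
    calc u * (a * b) * u⁻¹ = u * a * b * u⁻¹ := by group
      _ = a * (u * b * u⁻¹) := by rw [hu']; group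
      _ = a * (u * (v * b * v⁻¹) * u⁻¹) := by rw [hv']
      _ = a * (u * v * b * (u * v)⁻¹) := by group
  let f : {y : G // IsConj b y} → {y : G // IsConj (a * b) y} := fun y => ⟨a * y.1, hsub _ y.2⟩
  have hf : Function.Surjective f := by
    refine (Nat.bijective_iff_injective_and_card f).2 ⟨fun y y' e => ?_, ?_⟩ |>.2
    · exact Subtype.ext (mul_left_cancel (congrArg Subtype.val e))
    · rw [hconj, hconj, heq]
  intro x hx
  -- move `g a g⁻¹ x` into the translate of the class
  have h1 : IsConj (a * b) (g * a * g⁻¹ * x) := by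
    have h2 := hsub (g⁻¹ * x * g) (hx.trans (isConj_iff.2 ⟨g⁻¹, by group⟩))
    refine h2.trans (isConj_iff.2 ⟨g, ?_⟩)
    group
  obtain ⟨⟨y, hy⟩, e⟩ := hf ⟨_, h1⟩
  have e' : a * y = g * a * g⁻¹ * x := congrArg Subtype.val e
  rw [show a⁻¹ * (g * a * g⁻¹) * x = a⁻¹ * (g * a * g⁻¹ * x) by group, ← e', inv_mul_cancel_left]
  exact hy

end CfsgLib.CIT.ThreeGen
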